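import Groth.Agent.Surf.K462.H1Ideal
import Groth.Agent.Dcoh.FinLocFree
import Groth.Agent.Dcoh.FreeSec
import Groth.Agent.Pic13.H951.Present
/-!
# The evaluation map of a globally generated module

* `exists_ev` : a basis of `H^0(M)` gives an epimorphism `O^n → M` injective on global sections;
* `le_finrank` : if `0 → F → O^n → Q → 0` is exact and `Hom(O, F) = 0` then `n ≤ h^0(Q)`.
-/

set_option autoImplicit false
universe u
open CategoryTheory CategoryTheory.Limits AlgebraicGeometry Opposite TopologicalSpace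

namespace K80.EvMap

open Groth.Agent Groth.Agent.CurvesB

section

variable {X : Scheme.{u}}

theorem unitSec_smul_comp {M : X.Modules} (v : Coh.structureModule X ⟶ Coh.structureModule X)
    (w : Coh.structureModule X ⟶ M) (c : Γ(X, ⊤)) (hc : Dcoh.FinLocFree.unitSec v = Dcoh.FinLocFree.fn ⊤ c) :
    Dcoh.FinLocFree.unitSec (v ≫ w) = c • Dcoh.FinLocFree.unitSec w := by
  rw [Dcoh.FinLocFree.unitSec_comp, hc, Dcoh.FinLocFree.app_eq_smul]
  congr 1
  have h : (homOfLE (le_top : (⊤ : X.Opens) ≤ ⊤)).op = 𝟙 _ := rfl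
  rw [h, M.presheaf.map_id]
  rfl

/-- The components of a morphism `O → O^n`. -/
theorem eq_sum_comp {n : ℕ} (u : Coh.structureModule X ⟶ FlatMod.freeMod X n) :
    u = ∑ j, (u ≫ Dcoh.FreeSec.pr X j) ≫ Limits.Sigma.ι (fun _ : Fin n => Coh.structureModule X) j := by
  conv_lhs => rw [← Category.comp_id u]
  rw [← Dcoh.FreeSec.sum_pr_ι, Preadditive.comp_sum]
  simp only [Category.assoc]

theorem eq_zero_of_comp {n : ℕ} (u : Coh.structureModule X ⟶ FlatMod.freeMod X n)
    (h : ∀ j, u ≫ Dcoh.FreeSec.pr X j = 0) : u = 0 := by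
  rw [eq_sum_comp u]
  exact Finset.sum_eq_zero fun j _ => by rw [h j, zero_comp]

end

variable (k : Type u) [Field k] {X : Scheme.{u}} [X.Over (Spec (CommRingCat.of k))]

theorem exists_const [IsAlgClosed k] [IsProper (X ↘ Spec (CommRingCat.of k))] [IsIntegral X] (s : Γ(X, ⊤)) :
    ∃ t : k, HZero.gl k X t = s := K462.H1Ideal.surjective_gl k (X ↘ Spec (CommRingCat.of k)) s

/-- A basis of the global sections gives an epimorphism from a free module injective on sections. -/
theorem exists_ev [IsAlgClosed k] [IsProper (X ↘ Spec (CommRingCat.of k))] [IsIntegral X] {M : X.Modules}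
    (h : Curv2.IsGloballyGenerated M) (hf : Module.Finite k (Coh.HH X M 0)) :
    ∃ p : FlatMod.freeMod X (Module.finrank k (Coh.HH X M 0)) ⟶ M, Epi p ∧
      ∀ u : Coh.structureModule X ⟶ FlatMod.freeMod X (Module.finrank k (Coh.HH X M 0)), u ≫ p = 0 → u = 0 := by
  let _ := HZero.moduleΓ k M
  let e := HZero.equivLin k M
  let b := Module.finBasis k (Coh.HH X M 0)
  let b' := b.map e
  refine ⟨Dcoh.FinLocFree.freeDesc (fun i => b' i), Pic13.H951.Present.epi_of_span (k := k) h _ b'.span_eq, ?_⟩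
  intro u hu
  have hc : ∀ j, ∃ t : k, Dcoh.FinLocFree.unitSec (u ≫ Dcoh.FreeSec.pr X j) =
      Dcoh.FinLocFree.fn ⊤ (HZero.gl k X t) := fun j => by
    obtain ⟨c, hc⟩ := (Dcoh.FinLocFree.fn (X := X) ⊤).surjective (Dcoh.FinLocFree.unitSec (u ≫ Dcoh.FreeSec.pr X j))
    obtain ⟨t, ht⟩ := exists_const k c
    exact ⟨t, by rw [ht, hc]⟩
  choose t ht using hc
  have h1 : Dcoh.FinLocFree.unitSec (u ≫ Dcoh.FinLocFree.freeDesc (fun i => b' i)) = ∑ j, t j • b' j := by
    have h2 : u ≫ Dcoh.FinLocFree.freeDesc (fun i => b' i) = ∑ j, (u ≫ Dcoh.FreeSec.pr X j) ≫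
        (Limits.Sigma.ι (fun _ : Fin _ => Coh.structureModule X) j ≫ Dcoh.FinLocFree.freeDesc (fun i => b' i)) := by
      conv_lhs => rw [eq_sum_comp u]
      rw [Preadditive.sum_comp]
      simp only [Category.assoc]
    rw [h2]
    have h3 : ∀ f : Fin (Module.finrank k (Coh.HH X M 0)) → (Coh.structureModule X ⟶ M),
        Dcoh.FinLocFree.unitSec (∑ j, f j) = ∑ j, Dcoh.FinLocFree.unitSec (f j) :=
      fun f => map_sum (Dcoh.FinLocFree.unitEquiv M).toAddMonoidHom f Finset.univ
    rw [h3]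
    refine Finset.sum_congr rfl fun j _ => ?_
    rw [unitSec_smul_comp _ _ _ (ht j)]
    exact congrArg (fun s => HZero.gl k X (t j) • s) (Dcoh.FinLocFree.freeSec_freeDesc (fun i => b' i) j)
  rw [hu] at h1
  have h4 : Dcoh.FinLocFree.unitSec (0 : Coh.structureModule X ⟶ M) = 0 :=
    map_zero (Dcoh.FinLocFree.unitEquiv M)
  rw [h4] at h1
  have h5 := Fintype.linearIndependent_iff.mp b'.linearIndependent t h1.symm
  refine eq_zero_of_comp u fun j => Dcoh.FinLocFree.hom_ext_unit ?_
  rw [ht j, h5 j, map_zero, map_zero]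
  exact (map_zero (Dcoh.FinLocFree.unitEquiv (Coh.structureModule X))).symm

/-- The kernel of a map injective on global sections has no sections. -/
theorem hom_kernel_eq_zero {E M : X.Modules} (p : E ⟶ M)
    (h : ∀ u : Coh.structureModule X ⟶ E, u ≫ p = 0 → u = 0) (v : Coh.structureModule X ⟶ kernel p) : v = 0 := by
  rw [← cancel_mono (kernel.ι p), zero_comp]
  exact h _ (by rw [Category.assoc, kernel.condition, comp_zero])

/-- `n ≤ h^0(Q)` if `0 → F → O^n → Q → 0` is exact and `F` has no sections. -/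
theorem le_finrank [Nonempty X] {n : ℕ} {F : X.Modules} (φ : F ⟶ FlatMod.freeMod X n) [Mono φ]
    (hF : ∀ v : Coh.structureModule X ⟶ F, v = 0) (hf : Module.Finite k (Coh.HH X (cokernel φ) 0)) :
    n ≤ Module.finrank k (Coh.HH X (cokernel φ) 0) := by
  let _ := HZero.moduleΓ k (cokernel φ)
  let e := HZero.equivLin k (cokernel φ)
  have hf' : Module.Finite k Γ(cokernel φ, ⊤) := Module.Finite.equiv e
  rw [e.finrank_eq]
  let s : Fin n → Γ(cokernel φ, ⊤) := fun j => Dcoh.FinLocFree.freeSec (cokernel.π φ) j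
  have hs : LinearIndependent k s := by
    rw [Fintype.linearIndependent_iff]
    intro t ht
    let u : Coh.structureModule X ⟶ FlatMod.freeMod X n :=
      ∑ j, Dcoh.FinLocFree.ofSec (Dcoh.FinLocFree.fn (X := X) ⊤ (HZero.gl k X (t j))) ≫
        Limits.Sigma.ι (fun _ : Fin n => Coh.structureModule X) j
    have h1 : u ≫ cokernel.π φ = 0 := by
      apply Dcoh.FinLocFree.hom_ext_unit
      have h3 : ∀ f : Fin n → (Coh.structureModule X ⟶ cokernel φ),
          Dcoh.FinLocFree.unitSec (∑ j, f j) = ∑ j, Dcoh.FinLocFree.unitSec (f j) :=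
        fun f => map_sum (Dcoh.FinLocFree.unitEquiv (cokernel φ)).toAddMonoidHom f Finset.univ
      have h4 : Dcoh.FinLocFree.unitSec (0 : Coh.structureModule X ⟶ cokernel φ) = 0 :=
        map_zero (Dcoh.FinLocFree.unitEquiv (cokernel φ))
      rw [Preadditive.sum_comp, h3, h4, ← ht]
      refine Finset.sum_congr rfl fun j _ => ?_
      rw [Category.assoc, unitSec_smul_comp _ _ _ (Dcoh.FinLocFree.unitSec_ofSec _)]
      rfl
    obtain ⟨v, hv⟩ : ∃ v : Coh.structureModule X ⟶ F, v ≫ φ = u :=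
      ⟨Abelian.monoLift φ u h1, Abelian.monoLift_comp φ u h1⟩
    rw [hF v, zero_comp] at hv
    intro j
    by_contra hne
    have h5 : u ≫ Dcoh.FreeSec.pr X j =
        Dcoh.FinLocFree.ofSec (Dcoh.FinLocFree.fn (X := X) ⊤ (HZero.gl k X (t j))) := by
      simp only [u, Preadditive.sum_comp, Category.assoc, Dcoh.FreeSec.ι_pr]
      rw [Finset.sum_eq_single j]
      · simp
      · intro i _ hij
        simp [hij]
      · intro h; exact absurd (Finset.mem_univ j) h
    rw [← hv, zero_comp] at h5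
    have h6 := congrArg Dcoh.FinLocFree.unitSec h5
    rw [Dcoh.FinLocFree.unitSec_ofSec] at h6
    have h7 : HZero.gl k X (t j) = 0 := by
      apply (Dcoh.FinLocFree.fn (X := X) ⊤).injective
      rw [← h6, map_zero]
      exact map_zero (Dcoh.FinLocFree.unitEquiv (Coh.structureModule X))
    refine HZero.germ_gl_ne_zero k (t j) hne (Classical.arbitrary X) ?_
    rw [h7, map_zero]
  simpa using hs.fintype_card_le_finrank

end K80.EvMap
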