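import Groth.Agent.Surf.K80.LineFlat
import Groth.Agent.FormalA.PullbackQC
import Groth.Agent.CohqA.FinSec
import Groth.Agent.PerfA.CohSerre
/-!
# The family of cokernels of a line of homomorphisms
-/

set_option autoImplicit false
universe u
open CategoryTheory CategoryTheory.Limits AlgebraicGeometry Opposite

namespace K80.FamMain

open Groth.Agent K80.LineFam K80.ALine K80.LineFlat Polynomial

theorem isFP_of_isCoh {X : Scheme.{u}} [IsLocallyNoetherian X] {M : X.Modules} (h : Coh.IsCoh M) :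
    CohB1.IsFP M := by
  refine CohqA.FinSec.isFP_of_finitePresentation h.1 fun x => ?_
  obtain ⟨U, hU, hx, -⟩ := exists_isAffineOpen_mem_and_subset (U := (⊤ : X.Opens)) (x := x) trivial
  refine ⟨U, hU, hx, ?_⟩
  have : IsNoetherianRing Γ(X, U) := IsLocallyNoetherian.component_noetherian ⟨U, hU⟩
  have := CohqA.FinSec.finite_sections hU h.1 h.2
  exact Module.finitePresentation_of_finite _ _

variable {k : Type u} [Field k]

/-- The coordinate function on `T`. -/
noncomputable def coordT (g : k[X]) : Γ(T k g, ⊤) :=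
  (Scheme.ΓSpecIso (CommRingCat.of (Localization.Away g))).inv.hom (coordR g)

theorem pt_coordT {g : k[X]} (a : k) (ha : g.eval a ≠ 0) :
    (pt a ha).appTop.hom (coordT g) = (Scheme.ΓSpecIso (CommRingCat.of k)).inv.hom a := by
  have h := congr($(Scheme.ΓSpecIso_inv_naturality (CommRingCat.ofHom (ev a ha))).hom (coordR g))
  refine (h.symm).trans ?_
  change (Scheme.ΓSpecIso (CommRingCat.of k)).inv.hom (ev a ha (coordR g)) = _
  rw [ev_coordR]

theorem section_coordT {S : Scheme.{u}} (f : S ⟶ Spec (CommRingCat.of k)) {g : k[X]} (a : k) (ha : g.eval a ≠ 0)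
    (s : S ⟶ pullback f (pT k g)) (hs : s ≫ pullback.snd f (pT k g) = f ≫ pt a ha) :
    s.appTop.hom ((pullback.snd f (pT k g)).appTop.hom (coordT g)) = Coh.toGlobal f a := by
  have h1 : s.appTop.hom ((pullback.snd f (pT k g)).appTop.hom (coordT g)) =
      (s ≫ pullback.snd f (pT k g)).appTop.hom (coordT g) := by
    rw [Scheme.Hom.comp_appTop]
    rfl
  rw [h1, hs, Scheme.Hom.comp_appTop]
  change f.appTop.hom ((pt a ha).appTop.hom (coordT g)) = _
  rw [pt_coordT]
  rfl

variable [IsAlgClosed k] {S : Scheme.{u}} [S.Over (Spec (CommRingCat.of k))]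
  [LocallyOfFiniteType (S ↘ Spec (CommRingCat.of k))]

/-- A line of monomorphisms gives a flat family of cokernels. -/
theorem exists_family {g : k[X]} (hg : g ≠ 0) {F G : S.Modules} (hF : Coh.IsCoh F) (hG : Coh.IsCoh G)
    (φ₀ φ₁ : F ⟶ G) (h : ∀ a : k, g.eval a ≠ 0 → Mono (φ₀ + a • φ₁)) :
    ∃ 𝒜 : (pullback (S ↘ Spec (CommRingCat.of k)) (pT k g)).Modules,
      Coh.IsCoh 𝒜 ∧ FlatMod.IsFlatOver (pullback.snd (S ↘ Spec (CommRingCat.of k)) (pT k g)) 𝒜 ∧
      ∀ (a : k) (ha : g.eval a ≠ 0) (s : S ⟶ pullback (S ↘ Spec (CommRingCat.of k)) (pT k g))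
        (_ : s ≫ pullback.fst (S ↘ Spec (CommRingCat.of k)) (pT k g) = 𝟙 S)
        (_ : s ≫ pullback.snd (S ↘ Spec (CommRingCat.of k)) (pT k g) = (S ↘ Spec (CommRingCat.of k)) ≫ pt a ha),
        Nonempty ((Scheme.Modules.pullback s).obj 𝒜 ≅ cokernel (φ₀ + a • φ₁)) := by
  have hN : IsLocallyNoetherian S := LocallyOfFiniteType.isLocallyNoetherian (S ↘ Spec (CommRingCat.of k))
  have hfpS : LocallyOfFinitePresentation (S ↘ Spec (CommRingCat.of k)) := inferInstance
  have hsm : Smooth (pT k g) := smooth_pT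
  have hP : IsLocallyNoetherian (pullback (S ↘ Spec (CommRingCat.of k)) (pT k g)) :=
    LocallyOfFiniteType.isLocallyNoetherian
      (pullback.snd (S ↘ Spec (CommRingCat.of k)) (pT k g) ≫ pT k g)
  let τ := (pullback.snd (S ↘ Spec (CommRingCat.of k)) (pT k g)).appTop.hom (coordT g)
  let u := fam (pullback.fst (S ↘ Spec (CommRingCat.of k)) (pT k g)) φ₀ φ₁ τ
  have hF' := FormalA.PullbackQC.isCoh_pullback (pullback.fst (S ↘ Spec (CommRingCat.of k)) (pT k g)) F hF
  have hG' := FormalA.PullbackQC.isCoh_pullback (pullback.fst (S ↘ Spec (CommRingCat.of k)) (pT k g)) G hG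
  refine ⟨cokernel u, PerfA.CohSerre.isCoh_cokernel u hF'.1 hG', ?_, ?_⟩
  · refine isFlatOver_coker (S ↘ Spec (CommRingCat.of k)) hg hG.1 u (isFP_of_isCoh hF') (isFP_of_isCoh hG') ?_
    intro a ha s hs1 hs2
    have hm : Mono (φ₀ + Formal.smulModΓ F (Coh.toGlobal (S ↘ Spec (CommRingCat.of k)) a) ≫ φ₁) := h a ha
    exact mono_map_fam _ φ₀ φ₁ τ s hs1 _ (section_coordT _ a ha s hs2)
  · intro a ha s hs1 hs2
    exact nonempty_coker_iso _ φ₀ φ₁ τ s hs1 _ (section_coordT _ a ha s hs2)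

end K80.FamMain
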