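import Groth.Agent.SDiv.K474.FittSheaf
import Groth.Agent.Fitt.K360.Fiber
import Groth.Agent.Divis.StalkMod

/-!
# The zeroth Fitting ideal of a rank one module on an integral Cartier divisor
-/

set_option autoImplicit false
universe u
open CategoryTheory CategoryTheory.Limits AlgebraicGeometry Opposite TopologicalSpace

namespace K80.FittCurve

section Ring

variable {R N : Type u} [CommRing R] [AddCommGroup N] [Module R N]

theorem pow_mem {n : ℕ} (x : Fin n → N) (hx : Submodule.span R (Set.range x) = ⊤) (f : R) (h1 : ∀ y : N, f • y = 0) :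
    f ^ n ∈ Fitt.ideal R N 0 := by
  refine Ideal.subset_span ⟨n, x, Matrix.diagonal fun _ => f, hx, fun i _ => ?_, by simp [Matrix.det_diagonal]⟩
  rw [Finset.sum_eq_single i]
  · rw [Matrix.diagonal_apply_eq, h1]
  · intro j _ hj
    rw [Matrix.diagonal_apply_ne _ hj.symm, zero_smul]
  · intro h
    exact absurd (Finset.mem_univ _) h

theorem mul_prod_mem {n : ℕ} (x : Fin n → N) (hx : Submodule.span R (Set.range x) = ⊤) (f : R) (m : N)
    (h1 : f • m = 0) (s r : Fin n → R) (h : ∀ i, s i • x i = r i • m) : f * ∏ i, s i ∈ Fitt.ideal R N 0 := by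
  let a : Matrix (Fin (n + 1)) (Fin (n + 1)) R := Matrix.of
    (Fin.cons (Fin.cons f fun _ => 0) fun i => Fin.cons (- r i) (Pi.single i (s i)))
  have ha : a.det = f * ∏ i, s i := by
    rw [Matrix.det_of_isLowerTriangular]
    · rw [Fin.prod_univ_succ]
      simp [a]
    · intro i j hij
      have hij' : i < j := hij
      refine Fin.cases ?_ (fun j' hij' => ?_) j hij'
      · intro h
        exact absurd h (Fin.not_lt_zero _)
      · refine Fin.cases ?_ (fun i' hij' => ?_) i hij'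
        · intro _
          simp [a]
        · have hne : j' ≠ i' := fun e => by
            rw [e] at hij'
            exact lt_irrefl _ hij'
          simp [a, hne]
  refine Ideal.subset_span ⟨n + 1, Fin.cons m x, a, ?_, fun i _ => ?_, ha.symm⟩
  · rw [eq_top_iff, ← hx]
    refine Submodule.span_mono ?_
    rintro _ ⟨i, rfl⟩
    exact ⟨i.succ, by simp⟩
  · refine Fin.cases ?_ (fun i' => ?_) i
    · rw [Fin.sum_univ_succ]
      simp [a, h1]
    · rw [Fin.sum_univ_succ, Finset.sum_eq_single i']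
      · simp [a, h]
      · intro b _ hb
        simp [a, hb]
      · intro h
        exact absurd (Finset.mem_univ _) h

theorem ideal_eq [IsDomain R] [Module.Finite R N] {f δ : R} (hf : Prime f)
    (hδ : Fitt.ideal R N 0 = Ideal.span {δ}) (h1 : ∀ x : N, f • x = 0) (m : N) (h2 : ∀ a : R, a • m = 0 → f ∣ a)
    (h3 : ∀ x : N, ∃ s r : R, ¬ f ∣ s ∧ s • x = r • m) : Fitt.ideal R N 0 = Ideal.span {f} := by
  obtain ⟨n, x, hx⟩ := Module.Finite.exists_fin (R := R) (M := N)
  have e1 : δ ∣ f ^ n := by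
    have := pow_mem x hx f h1
    rwa [hδ, Ideal.mem_span_singleton] at this
  choose s r hs hr using h3
  have e2 : δ ∣ f * ∏ i, s (x i) := by
    have := mul_prod_mem x hx f m (h1 m) (fun i => s (x i)) (fun i => r (x i)) fun i => hr (x i)
    rwa [hδ, Ideal.mem_span_singleton] at this
  have e3 : f ∣ δ := by
    apply h2
    have h4 : δ ∈ Fitt.ideal R N 0 := by rw [hδ]; exact Ideal.mem_span_singleton_self δ
    exact Module.mem_annihilator.1 (K360.FittFiber.ideal_zero_le_annihilator h4) m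
  obtain ⟨k, hk, hk'⟩ := (dvd_prime_pow hf n).1 e1
  have hk0 : k ≠ 0 := by
    rintro rfl
    rw [pow_zero] at hk'
    exact hf.not_isUnit (isUnit_of_dvd_unit e3 (associated_one_iff_isUnit.1 hk'))
  have hk1 : k ≤ 1 := by
    by_contra hcon
    push Not at hcon
    have h5 : f ^ 2 ∣ f * ∏ i, s (x i) := (pow_dvd_pow f hcon).trans (hk'.symm.dvd.trans e2)
    rw [pow_two] at h5
    have h6 : f ∣ ∏ i, s (x i) := (mul_dvd_mul_iff_left hf.ne_zero).1 h5
    obtain ⟨i, -, hi⟩ := hf.exists_mem_finset_dvd h6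
    exact hs _ hi
  have hk2 : k = 1 := by omega
  rw [hk2, pow_one] at hk'
  rw [hδ]
  exact Ideal.span_singleton_eq_span_singleton.2 hk'

end Ring

section Generic

variable {C : Scheme.{u}} [IsIntegral C]

/-- A section generating generically. -/
theorem exists_gen (M : C.Modules) (hM : Coh.IsQCoh M)
    (hrk : Module.finrank (C.presheaf.stalk (genericPoint C)) (M.presheaf.stalk (genericPoint C)) = 1)
    {V : C.Opens} (hV : IsAffineOpen V) (hξ : genericPoint C ∈ V) :
    ∃ m : Γ(M, V), (∀ a : Γ(C, V), a • m = 0 → a = 0) ∧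
      ∀ x : Γ(M, V), ∃ s r : Γ(C, V), s ≠ 0 ∧ s • x = r • m := by
  have hne : Nonempty V := ⟨⟨_, hξ⟩⟩
  have hinj : Function.Injective (C.presheaf.germ V (genericPoint C) hξ).hom :=
    germ_injective_of_isIntegral C _ hξ
  refine Groth.Agent.Divis.StalkMod.stalk_elim M hM hV (genericPoint C) hξ ?_
  intro _ _ _ _ l hl halg _
  have hinj' : Function.Injective (algebraMap Γ(C, V) (C.presheaf.stalk (genericPoint C))) := by
    intro a b hab
    rw [halg, halg] at hab
    exact hinj hab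
  obtain ⟨v, hv0, hv⟩ := finrank_eq_one_iff'.1 hrk
  obtain ⟨⟨y, t⟩, hy⟩ := IsLocalizedModule.surj (hV.primeIdealOf ⟨genericPoint C, hξ⟩).asIdeal.primeCompl l v
  have hy' : l y = algebraMap Γ(C, V) (C.presheaf.stalk (genericPoint C)) t • v := by
    rw [algebraMap_smul]
    exact hy.symm
  have ht : algebraMap Γ(C, V) (C.presheaf.stalk (genericPoint C)) t ≠ 0 := fun h =>
    t.2 (by
      have h2 : (t : Γ(C, V)) = 0 := hinj' (by rw [h, map_zero])
      rw [h2]
      exact Ideal.zero_mem _)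
  have hly : l y ≠ 0 := by
    rw [hy']
    exact smul_ne_zero ht hv0
  refine ⟨y, fun a ha => ?_, fun x => ?_⟩
  · have h1 : algebraMap Γ(C, V) (C.presheaf.stalk (genericPoint C)) a • l y = 0 := by
      rw [algebraMap_smul, ← map_smul, ha, map_zero]
    rcases smul_eq_zero.1 h1 with h2 | h2
    · exact hinj' (by rw [h2, map_zero])
    · exact absurd h2 hly
  · obtain ⟨c, hc⟩ := hv (l x)
    have hc' : l x = (c * (algebraMap Γ(C, V) (C.presheaf.stalk (genericPoint C)) t)⁻¹) • l y := by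
      rw [hy', smul_smul, mul_assoc, inv_mul_cancel₀ ht, mul_one, hc]
    obtain ⟨a, b, hab⟩ := IsLocalization.exists_mk'_eq (hV.primeIdealOf ⟨genericPoint C, hξ⟩).asIdeal.primeCompl
      (c * (algebraMap Γ(C, V) (C.presheaf.stalk (genericPoint C)) t)⁻¹)
    have h1 : algebraMap Γ(C, V) (C.presheaf.stalk (genericPoint C)) b •
        (c * (algebraMap Γ(C, V) (C.presheaf.stalk (genericPoint C)) t)⁻¹) =
        algebraMap Γ(C, V) (C.presheaf.stalk (genericPoint C)) a := by
      rw [← hab, smul_eq_mul, mul_comm]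
      exact IsLocalization.mk'_spec _ a b
    have h2 : l ((b : Γ(C, V)) • x) = l (a • y) := by
      rw [map_smul, map_smul, hc', ← algebraMap_smul (C.presheaf.stalk (genericPoint C)) (b : Γ(C, V)),
        ← algebraMap_smul (C.presheaf.stalk (genericPoint C)) a, smul_smul, ← smul_eq_mul, h1]
    obtain ⟨d, hd⟩ := (IsLocalizedModule.eq_iff_exists
      (hV.primeIdealOf ⟨genericPoint C, hξ⟩).asIdeal.primeCompl l).1 h2
    refine ⟨d * b, d * a, ?_, ?_⟩
    · intro h
      have h3 := (hV.primeIdealOf ⟨genericPoint C, hξ⟩).asIdeal.primeCompl.mul_mem d.2 b.2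
      rw [h] at h3
      exact h3 (Ideal.zero_mem _)
    · rw [mul_smul, mul_smul]
      exact hd

end Generic

section Push

variable {S C : Scheme.{u}} [IsIntegral S] (j : C ⟶ S) [IsClosedImmersion j] [IsIntegral C]

theorem sheafIdeal_push (hP : BlowUp.IsEffCartierIdeal j.ker) (M : C.Modules) (hM : Coh.IsQCoh M)
    (hrk : Module.finrank (C.presheaf.stalk (genericPoint C)) (M.presheaf.stalk (genericPoint C)) = 1)
    (hA : Coh.IsCoh ((Coh.push j).obj M))
    (hI : ∀ x : S, ∃ U : S.affineOpens, x ∈ U.1 ∧ ∃ δ,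
      (Fitt.sheafIdeal ((Coh.push j).obj M) 0).ideal U = Ideal.span {δ}) :
    Fitt.sheafIdeal ((Coh.push j).obj M) 0 = j.ker := by
  refine Groth.Agent.Divis.IdealComap.ext_of_forall_mem fun x => ?_
  obtain ⟨U₁, hx₁, δ₁, hδ₁⟩ := hI x
  obtain ⟨U₂, hx₂, f₁, hf₁, hf₁'⟩ := hP x
  obtain ⟨U, hU, hxU, hU12⟩ := Opens.isBasis_iff_nbhd.mp S.isBasis_affineOpens
    (show x ∈ U₁.1 ⊓ U₂.1 from ⟨hx₁, hx₂⟩)
  let W : S.affineOpens := ⟨U, hU⟩
  refine ⟨W, hxU, ?_⟩
  have hneU : Nonempty U := ⟨⟨x, hxU⟩⟩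
  have hneU₂ : Nonempty U₂.1 := ⟨⟨x, hx₂⟩⟩
  have hW1 : W ≤ U₁ := hU12.trans inf_le_left
  have hW2 : W ≤ U₂ := hU12.trans inf_le_right
  have eI : (Fitt.sheafIdeal ((Coh.push j).obj M) 0).ideal W =
      Ideal.span {(S.presheaf.map (homOfLE hW1).op).hom δ₁} := by
    rw [← Scheme.IdealSheafData.map_ideal _ hW1, hδ₁, Ideal.map_span, Set.image_singleton]
  have eP : j.ker.ideal W = Ideal.span {(S.presheaf.map (homOfLE hW2).op).hom f₁} := by
    rw [← Scheme.IdealSheafData.map_ideal _ hW2, hf₁', Ideal.map_span, Set.image_singleton]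
  have hf0 : (S.presheaf.map (homOfLE hW2).op).hom f₁ ≠ 0 := by
    intro h
    have h1 : f₁ = 0 := by
      apply map_injective_of_isIntegral S (homOfLE hW2)
      rw [map_zero]
      exact h
    exact nonZeroDivisors.ne_zero hf₁ h1
  set f := (S.presheaf.map (homOfLE hW2).op).hom f₁ with hf
  have hker : j.ker.ideal W = RingHom.ker (j.app U).hom := j.ker_apply W
  have hmem : ∀ a : Γ(S, U), (j.app U).hom a = 0 ↔ f ∣ a := fun a => by
    rw [← RingHom.mem_ker, ← hker, eP, Ideal.mem_span_singleton]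
  have : Module.Finite Γ(S, U) Γ((Coh.push j).obj M, U) := Groth.Agent.Divis.StalkMod.finite_sections hA hU
  rw [Groth.Agent.SDiv.K474.FittSheaf.sheafIdeal_ideal _ hA.1 hA.2] at eI ⊢
  have hz : ∀ (a : Γ(S, U)) (y : Γ((Coh.push j).obj M, U)), (j.app U).hom a = 0 → a • y = 0 := by
    intro a y h
    have h1 : a • y = (show Γ((Coh.push j).obj M, U) from
      ((j.app U).hom a • (show Γ(M, j ⁻¹ᵁ U) from y) : Γ(M, j ⁻¹ᵁ U))) := rfl
    rw [h1, h]
    exact zero_smul Γ(C, j ⁻¹ᵁ U) (show Γ(M, j ⁻¹ᵁ U) from y)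
  by_cases hξ : genericPoint C ∈ j ⁻¹ᵁ U
  · have hne : Nonempty (j ⁻¹ᵁ U) := ⟨⟨_, hξ⟩⟩
    have hV : IsAffineOpen (j ⁻¹ᵁ U) := hU.preimage j
    obtain ⟨m, hm1, hm2⟩ := exists_gen M hM hrk hV hξ
    have hprime : Prime f := by
      rw [← Ideal.span_singleton_prime hf0, ← eP, hker]
      exact RingHom.ker_isPrime _
    rw [eP]
    refine ideal_eq hprime eI (fun y => ?_) (show Γ((Coh.push j).obj M, U) from m) (fun a ha => ?_) (fun y => ?_)
    · exact hz f y ((hmem f).2 dvd_rfl)
    · exact (hmem a).1 (hm1 _ ha)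
    · obtain ⟨s, r, hs, hsr⟩ := hm2 y
      obtain ⟨s', rfl⟩ := j.app_surjective U hU s
      obtain ⟨r', rfl⟩ := j.app_surjective U hU r
      exact ⟨s', r', fun h => hs ((hmem s').2 h), hsr⟩
  · have hemp : j ⁻¹ᵁ U = ⊥ := by
      by_contra hcon
      have hne : (j ⁻¹ᵁ U : Set C).Nonempty := by
        rw [Set.nonempty_iff_ne_empty]
        intro h
        exact hcon (Opens.ext h)
      exact hξ ((genericPoint_specializes _).mem_open (j ⁻¹ᵁ U).2 hne.some_mem)
    have hsub : Subsingleton Γ(C, j ⁻¹ᵁ U) := by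
      rw [hemp]
      infer_instance
    have h1 : f ∣ 1 := (hmem 1).1 (Subsingleton.elim _ _)
    have h2 : ∀ y : Γ((Coh.push j).obj M, U), y = 0 := fun y => by
      have h3 : (1 : Γ(S, U)) • y = 0 := hz 1 y (Subsingleton.elim _ _)
      rwa [one_smul] at h3
    rw [eP, Ideal.span_singleton_eq_top.2 (isUnit_of_dvd_one h1)]
    refine K360.FittBasic.ideal_eq_top_of_card_le (fun i : Fin 0 => i.elim0) ?_ (le_refl _)
    rw [eq_top_iff]
    rintro y -
    rw [h2 y]
    exact Submodule.zero_mem _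

end Push

end K80.FittCurve
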