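import Groth.Agent.Surf.K80.KerCart
import Groth.Agent.Surf.K80.FittCurve
import Groth.Agent.SDiv.K474.FittBlow
import Groth.Agent.VarietyA.EulerLES
/-!
# The ideal of the degeneracy curve
-/

set_option autoImplicit false
universe u
open CategoryTheory CategoryTheory.Limits AlgebraicGeometry TopologicalSpace Opposite

namespace K80.FitIdeal

open Groth.Agent K707.Base K80.FittDet

variable (k : Type u) [Field k] {S C : Scheme.{u}} [S.Over (Spec (CommRingCat.of k))]
  [Smooth (S ↘ Spec (CommRingCat.of k))] [IsIntegral S]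

include k in
/-- The zeroth Fitting ideal of `j_* M`, `M` of rank one on an integral curve, with a locally free
resolution of length one. -/
theorem sheafIdeal_coker (hdim : topologicalKrullDim S = 2) (j : C ⟶ S) [IsClosedImmersion j] [IsIntegral C]
    (hC : topologicalKrullDim C = 1) (M : C.Modules) (hM : Coh.IsQCoh M)
    (hrk : Module.finrank (C.presheaf.stalk (genericPoint C)) (M.presheaf.stalk (genericPoint C)) = 1)
    (hA : Coh.IsCoh ((Coh.push j).obj M)) {n : ℕ} {F : S.Modules} (hF : FlatMod.IsFinLocFreeOfRank n F)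
    (φ : F ⟶ FlatMod.freeMod S n) [Mono φ] (e : cokernel φ ≅ (Coh.push j).obj M) :
    Fitt.sheafIdeal (cokernel φ) 0 = j.ker := by
  have hN : IsLocallyNoetherian S := LocallyOfFiniteType.isLocallyNoetherian (S ↘ Spec (CommRingCat.of k))
  have hFq := (isCoh_of_rank hF).1
  have hc := isCoh_coker hFq φ
  have e1 := SDiv.K474.FittBlow.sheafIdeal_iso e hc.1 hA.1 hc.2 hA.2 0
  refine e1.trans (FittCurve.sheafIdeal_push j (KerCart.isEffCartierIdeal_ker k hdim j hC) M hM hrk hA ?_)
  intro x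
  obtain ⟨U, ⟨i, rfl⟩, hx, -⟩ := Opens.isBasis_iff_nbhd.mp (isBasis_idx hF) (show x ∈ (⊤ : S.Opens) from trivial)
  refine ⟨i.U, hx, (mt φ (i.hb.basis le_rfl)).det, ?_⟩
  rw [← e1]
  exact sheafIdeal_eq_span hFq φ i.U (i.hb.basis le_rfl)

/-- `H^1` of the ideal of the degeneracy curve. -/
theorem h1_idealMod [IsAlgClosed k] [IsProper (S ↘ Spec (CommRingCat.of k))]
    (hdim : topologicalKrullDim S = 2) (j : C ⟶ S) [IsClosedImmersion j] [IsIntegral C]
    (hC : topologicalKrullDim C = 1) (M : C.Modules) (hM : Coh.IsQCoh M)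
    (hrk : Module.finrank (C.presheaf.stalk (genericPoint C)) (M.presheaf.stalk (genericPoint C)) = 1)
    (hA : Coh.IsCoh ((Coh.push j).obj M)) {n : ℕ} {F : S.Modules} (hF : FlatMod.IsFinLocFreeOfRank n F)
    (φ₀ : F ⟶ FlatMod.freeMod S n) [Mono φ₀] (e : cokernel φ₀ ≅ (Coh.push j).obj M)
    (h : Subsingleton (Coh.HH S (Coh.structureModule S) 1)) (φ : F ⟶ FlatMod.freeMod S n) [Mono φ] :
    Subsingleton (Coh.HH S (ClSub.idealMod (Fitt.sheafIdeal (cokernel φ) 0)) 1) := by
  have hN : IsLocallyNoetherian S := LocallyOfFiniteType.isLocallyNoetherian (S ↘ Spec (CommRingCat.of k))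
  obtain ⟨ε⟩ := FittDet.nonempty_iso hF (isCoh_of_rank hF).1 φ φ₀
  rw [sheafIdeal_coker k hdim j hC M hM hrk hA hF φ₀ e] at ε
  have h1 := KerCart.h1_idealMod_ker k j h
  exact (VarietyA.EulerLES.equivA k ε 1).toEquiv.subsingleton

end K80.FitIdeal
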