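import Groth.Agent.Surf.K459.Duality
import Groth.Agent.Curves.K327.GGTensor
import Groth.Agent.IntSh.K878.CapEx
import Groth.Agent.Krr.H463.HomTensor
import Groth.Agent.Ega3B.SecHom
import Groth.Agent.S10945
import Groth.Agent.S10869
import Groth.Agent.VarietyB.GGStalk
import Groth.Agent.Dcoh.FinLocFree

/-!
# Global generation of the dual of the kernel of the evaluation map
-/

set_option autoImplicit false
universe u
open CategoryTheory CategoryTheory.Limits AlgebraicGeometry Opposite TopologicalSpace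
open Groth.Agent Groth.Agent.CohqB
open Groth.Agent.CohqB.HomSheaf (homSheaf)
open Groth.Agent.Sga2.PnHomAdj Groth.Agent.Sga2.PnHomExact
open Groth.Agent.Curves.K327.GGTensor K459.HomLES K459.Duality K459.ExStalk

namespace K80.GGDual

variable {X : Scheme.{u}}

theorem gg_iso {M N : X.Modules} (e : M ≅ N) (h : Curv2.IsGloballyGenerated M) : Curv2.IsGloballyGenerated N :=
  Ega2.GlobGenCrit.isGloballyGenerated_of_iso e h

/-- Global generation in terms of morphisms out of the module. -/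
theorem gg_of_family {S : X.Modules} {κ : Type u} (s : κ → (Coh.structureModule X ⟶ S))
    (h : ∀ (T : X.Modules) (g : S ⟶ T), (∀ k, s k ≫ g = 0) → g = 0) : Curv2.IsGloballyGenerated S := by
  have key : ∀ (T : X.Modules) (h₁ h₂ : S ⟶ T), Ega2.GlobGenCrit.desc s ≫ h₁ =
      Ega2.GlobGenCrit.desc s ≫ h₂ → h₁ = h₂ := by
    intro T h₁ h₂ hh
    rw [← sub_eq_zero]
    refine h T _ fun k => ?_
    rw [Preadditive.comp_sub, sub_eq_zero, Ega2.GlobGenCrit.ι_desc s k]
    exact (Category.assoc (obj := X.Modules) _ _ _).trans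
      ((congrArg (fun t ↦ Limits.Sigma.ι (fun _ : κ ↦ Coh.structureModule X) k ≫ t) hh).trans
        (Category.assoc (obj := X.Modules) _ _ _).symm)
  exact ⟨κ, Ega2.GlobGenCrit.desc s, ⟨fun {T} h₁ h₂ e => key T h₁ h₂ e⟩⟩

theorem fam_aux {S : X.Modules} (κ : Type u) (p : (∐ fun _ : κ ↦ Coh.structureModule X) ⟶ S) (hp : Epi p)
    (T : X.Modules) (g : S ⟶ T)
    (hg : ∀ k, (Limits.Sigma.ι (fun _ : κ ↦ Coh.structureModule X) k ≫ p) ≫ g = 0) : g = 0 := by
  rw [← cancel_epi p, Limits.comp_zero]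
  refine Limits.Sigma.hom_ext _ _ fun k => ?_
  rw [Limits.comp_zero]
  simpa using hg k

theorem exists_family {S : X.Modules} (hS : Curv2.IsGloballyGenerated S) :
    ∃ (κ : Type u) (s : κ → (Coh.structureModule X ⟶ S)),
      ∀ (T : X.Modules) (g : S ⟶ T), (∀ k, s k ≫ g = 0) → g = 0 := by
  obtain ⟨κ, p, hp⟩ := hS
  exact ⟨κ, _, fun T g hg => fam_aux κ p hp T g hg⟩

theorem gg_of_dec {N S : X.Modules} (s : Dec N S) (h : Curv2.IsGloballyGenerated N) :
    Curv2.IsGloballyGenerated S := by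
  obtain ⟨κ, t, ht⟩ := exists_family h
  obtain ⟨p, i, q, tot⟩ := s
  refine gg_of_family (κ := Fin p × κ) (fun jk => t jk.2 ≫ i jk.1) fun T g hg => ?_
  have h1 : ∀ j, i j ≫ g = 0 := fun j => ht T _ fun k => by
    have := hg (j, k)
    rwa [Category.assoc] at this
  have h2 : g = (∑ j, q j ≫ i j) ≫ g := by rw [tot, Category.id_comp]
  rw [h2, Preadditive.sum_comp]
  refine Finset.sum_eq_zero fun j _ => ?_
  rw [Category.assoc, h1, Limits.comp_zero]

theorem dec_of_iso {C : Type*} [Category C] [Preadditive C] {N S S' : C} (s : Dec N S) (e : S ≅ S') : Dec N S' := by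
  obtain ⟨p, i, q, h⟩ := s
  refine ⟨p, fun j => i j ≫ e.hom, fun j => e.inv ≫ q j, ?_⟩
  have : ∑ j, (e.inv ≫ q j) ≫ i j ≫ e.hom = e.inv ≫ (∑ j, q j ≫ i j) ≫ e.hom := by
    rw [Preadditive.sum_comp, Preadditive.comp_sum]
    simp
  rw [this, h]
  simp

theorem adj_family {C D : Type*} [Category C] [Category D] [Preadditive C] [Preadditive D] {L : C ⥤ D}
    {R : D ⥤ C} (adj : L ⊣ R) [L.Additive] [R.Additive] {κ : Type*} {O G : C} (s : κ → (O ⟶ G))
    (hs : ∀ (T : C) (g : G ⟶ T), (∀ k, s k ≫ g = 0) → g = 0) {T : D} (g : L.obj G ⟶ T)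
    (h : ∀ k, L.map (s k) ≫ g = 0) : g = 0 := by
  have h3 : adj.homEquiv G T g = 0 := hs _ _ fun k' => by
    rw [← Adjunction.homEquiv_naturality_left, h]
    simp [Adjunction.homEquiv_unit]
  have h4 : adj.homEquiv G T g = adj.homEquiv G T 0 := by
    rw [h3]
    simp [Adjunction.homEquiv_unit]
  exact (adj.homEquiv G T).injective h4

theorem abs_family {C : Type*} [Category C] [Preadditive C] {L R : C ⥤ C} (adj : L ⊣ R) [L.Additive] [R.Additive]
    {κ κ' : Type*} {O E G : C} (s : κ → (O ⟶ E)) (hs : ∀ (T : C) (g : E ⟶ T), (∀ k, s k ≫ g = 0) → g = 0)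
    (s' : κ' → (O ⟶ G)) (hs' : ∀ (T : C) (g : G ⟶ T), (∀ k, s' k ≫ g = 0) → g = 0) (r : E ⟶ L.obj O) [Epi r]
    (T : C) (g : L.obj G ⟶ T) (h : ∀ k k', (s k ≫ r ≫ L.map (s' k')) ≫ g = 0) : g = 0 := by
  refine adj_family adj s' hs' g fun k' => ?_
  have h2 : r ≫ L.map (s' k') ≫ g = 0 := hs _ _ fun k => by
    simpa only [Category.assoc] using h k k'
  rw [← cancel_epi r, Limits.comp_zero]
  exact h2

theorem additive_tbE (E : X.Modules) : ((DCoh.tensorBi (X := X)).obj E).Additive := K878.CapEx.additive_tb E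

theorem exists_r (E : X.Modules) :
    ∃ r : E ⟶ ((DCoh.tensorBi (X := X)).obj E).obj (Coh.structureModule X), Epi r := by
  let e : E ≅ ((DCoh.tensorBi (X := X)).obj E).obj (Coh.structureModule X) := (Ega2.Tens.runit E).symm
  exact ⟨e.hom, inferInstance⟩

/-- The tensor product of globally generated modules. -/
theorem gg_tensor {E G : X.Modules} (hE : Curv2.IsGloballyGenerated E) (hG : Curv2.IsGloballyGenerated G) :
    Curv2.IsGloballyGenerated (((DCoh.tensorBi (X := X)).obj E).obj G) := by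
  obtain ⟨κ, s, hs⟩ := exists_family hE
  obtain ⟨κ', s', hs'⟩ := exists_family hG
  obtain ⟨r, hr⟩ := exists_r E
  have h1 := additive_tbE E
  have h2 : (homF E).Additive := additive_homF E
  exact gg_of_family (κ := κ × κ') (fun kk => s kk.1 ≫ r ≫ ((DCoh.tensorBi (X := X)).obj E).map (s' kk.2))
    fun T g hg => abs_family (homAdj E) s hs s' hs' r T g fun k k' => hg (k, k')

/-- `Hom(-, N)` of a decomposition. -/
theorem dec_homSheaf {A B : X.Modules} (s : Dec A B) (N : X.Modules) : Dec (homSheaf A N) (homSheaf B N) := by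
  obtain ⟨p, i, q, h⟩ := s
  refine ⟨p, fun j => homMapLeft (q j) N, fun j => homMapLeft (i j) N, ?_⟩
  have h1 : ∀ j, homMapLeft (i j) N ≫ homMapLeft (q j) N = homMapLeft (q j ≫ i j) N := fun j =>
    homMapLeft_comp _ _ _
  simp only [h1]
  have h2 : ∀ J : Finset (Fin p), ∑ j ∈ J, homMapLeft (q j ≫ i j) N = homMapLeft (∑ j ∈ J, q j ≫ i j) N := by
    intro J
    induction J using Finset.induction_on with
    | empty => simp [homMapLeft_zero]
    | insert a J ha ih => rw [Finset.sum_insert ha, Finset.sum_insert ha, ih, homMapLeft_add]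
  rw [h2, h, homMapLeft_id]

/-- `Hom(E, N) ⊗ D ≅ Hom(E, N ⊗ D)` in the form needed: `ω' ⊗ Hom(E, ω) ≅ Hom(E, O)`. -/
theorem nonempty_iso {E ω ω' : X.Modules} (hE : FlatMod.IsFinLocFree E) (hω : PicF.IsInvertible ω)
    (e : CohB1.tensorMod ω ω' ≅ Coh.structureModule X) :
    Nonempty (((DCoh.tensorBi (X := X)).obj ω').obj (homSheaf E ω) ≅ homSheaf E (Coh.structureModule X)) := by
  obtain ⟨a⟩ := Krr.H463.HomTensor.nonempty_iso hE (Ega2.QCohLocal.isFinLocFreeOfRank_one_iff.2 hω)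
  let H := homSheaf E (Coh.structureModule X)
  have e1 : CohB1.tensorMod ω' (homSheaf E ω) ≅ CohB1.tensorMod (homSheaf E ω) ω' := Ega2.Tens.swap _ _
  have e2 : CohB1.tensorMod (homSheaf E ω) ω' ≅ CohB1.tensorMod (CohB1.tensorMod H ω) ω' :=
    PicGrp.tensorModIso a.symm (Iso.refl _)
  have e3 : CohB1.tensorMod (CohB1.tensorMod H ω) ω' ≅ CohB1.tensorMod H (CohB1.tensorMod ω ω') :=
    Ega2.Tens.assoc _ _ _
  have e4 : CohB1.tensorMod H (CohB1.tensorMod ω ω') ≅ CohB1.tensorMod H (Coh.structureModule X) :=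
    PicGrp.tensorModIso (Iso.refl _) e
  exact ⟨e1 ≪≫ e2 ≪≫ e3 ≪≫ e4 ≪≫ Ega2.Tens.runit H⟩

/-- `O ⊗ - ≅ id`. -/
noncomputable def lunitNat : (DCoh.tensorBi (X := X)).obj (Coh.structureModule X) ≅ 𝟭 X.Modules :=
  NatIso.ofComponents (fun N => Ega2.Tens.lunit N) (fun {N N'} g => by
    refine Ega2.Tens.hom_ext _ _ fun U r n => ?_
    have h0 : ∃ r' : Γ(X, U), r = Ega2.Tens.sm r' := Ega2.Tens.exists_sm r
    obtain ⟨r', hr'⟩ := h0
    rw [hr']
    clear hr'
    have h1 : (((DCoh.tensorBi (X := X)).obj (Coh.structureModule X)).map g).app U (Ega2.Tens.tmul (Ega2.Tens.sm r') n) =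
      Ega2.Tens.tmul (Ega2.Tens.sm r') (g.app U n) := tensorBi_map_tmul _ _ _ _
    change (Ega2.Tens.lunit N').hom.app U ((((DCoh.tensorBi (X := X)).obj (Coh.structureModule X)).map g).app U
      (Ega2.Tens.tmul (Ega2.Tens.sm r') n)) = g.app U ((Ega2.Tens.lunit N).hom.app U (Ega2.Tens.tmul (Ega2.Tens.sm r') n))
    rw [h1, Ega2.Tens.lunit_hom_tmul, Ega2.Tens.lunit_hom_tmul]
    exact (Scheme.Modules.Hom.app_smul g r' n).symm)

/-- `Hom(O, N) ≅ N`. -/
theorem nonempty_homO (N : X.Modules) : Nonempty (homSheaf (Coh.structureModule X) N ≅ N) :=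
  ⟨(((homAdj (Coh.structureModule X)).ofNatIsoLeft lunitNat).rightAdjointUniq (Adjunction.id)).app N⟩

theorem gg_structureModule (X : Scheme.{u}) : Curv2.IsGloballyGenerated (Coh.structureModule X) :=
  gg_of_family (κ := PUnit) (fun _ => 𝟙 _) fun T g hg => by
    have := hg PUnit.unit
    rwa [Category.id_comp] at this

theorem dec_freeMod (n : ℕ) : Dec (Coh.structureModule X) (FlatMod.freeMod X n) :=
  Dec.sigma n (Coh.structureModule X)

theorem gg_freeMod (n : ℕ) : Curv2.IsGloballyGenerated (FlatMod.freeMod X n) :=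
  gg_of_dec (dec_freeMod n) (gg_structureModule X)

variable [HasInjectiveResolutions X.Modules] [IsIntegral X] [IsLocallyNoetherian X]

section Res

variable {n : ℕ} {F A : X.Modules} {f : F ⟶ FlatMod.freeMod X n} {g : FlatMod.freeMod X n ⟶ A} {w : f ≫ g = 0}
  (hS : (ShortComplex.mk f g w).ShortExact) (h₁ : FlatMod.IsFinLocFree F)

include hS h₁ in
/-- The dual of the kernel of an epimorphism from a free module onto a torsion module is globally generated. -/
theorem gg_dual {ω ω' : X.Modules} (hω : PicF.IsInvertible ω) (hω' : PicF.IsInvertible ω')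
    (e : CohB1.tensorMod ω ω' ≅ Coh.structureModule X) (hg : Curv2.IsGloballyGenerated ω')
    (hA : Coh.IsCoh A) (ht : Tors A) (hAg : Curv2.IsGloballyGenerated (Ex 1 A ω))
    (h1 : Subsingleton (Coh.HH X (Coh.structureModule X) 1)) :
    Curv2.IsGloballyGenerated (homSheaf F (Coh.structureModule X)) := by
  have hωf : FlatMod.IsFinLocFree ω :=
    Ega2.QCohLocal.isFinLocFree_of_rank (Ega2.QCohLocal.isFinLocFreeOfRank_one_iff.2 hω)
  have hωf' : FlatMod.IsFinLocFree ω' :=
    Ega2.QCohLocal.isFinLocFree_of_rank (Ega2.QCohLocal.isFinLocFreeOfRank_one_iff.2 hω')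
  have h0 : FlatMod.IsFinLocFree (FlatMod.freeMod X n) := Dcoh.FinLocFree.isFinLocFree_freeMod X n
  have hT := shortExact_dual hS h₁ h0 hωf hA ht
  have hT' := K878.CapEx.shortExact_tb hωf' hT
  have hd : Dec (Coh.structureModule X) (((DCoh.tensorBi (X := X)).obj ω').obj
      (homSheaf (FlatMod.freeMod X n) ω)) := by
    have hOf : FlatMod.IsFinLocFree (Coh.structureModule X) := Sga67.TensorOps.isFinLocFree_structureModule
    obtain ⟨a⟩ := nonempty_iso hOf hω e
    obtain ⟨b⟩ := nonempty_homO (Coh.structureModule X)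
    have h2 := additive_tbE ω'
    exact ((dec_homSheaf (dec_freeMod n) ω).map ((DCoh.tensorBi (X := X)).obj ω')).congr (a ≪≫ b)
  obtain ⟨e2⟩ := nonempty_iso h₁ hω e
  refine gg_iso e2 (Groth.Agent.S10945.result X _ hT' ?_ ?_ ?_)
  · exact Ega3B.SecHom.surjective_app_top hT' (subsingleton_of_dec hd 1 h1)
  · exact gg_of_dec hd (gg_structureModule X)
  · exact gg_tensor hg hAg

end Res

omit [HasInjectiveResolutions X.Modules] [IsIntegral X] [IsLocallyNoetherian X] in
/-- `Hom(F, O^m)` is globally generated if `Hom(F, O)` is. -/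
theorem gg_homSheaf_freeMod {F : X.Modules} (h : Curv2.IsGloballyGenerated (homSheaf F (Coh.structureModule X)))
    (m : ℕ) : Curv2.IsGloballyGenerated (homSheaf F (FlatMod.freeMod X m)) :=
  gg_of_dec ((dec_freeMod m).map (homF F)) h

end K80.GGDual
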