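import Mathlib.Algebra.MvPolynomial.Eval
import Mathlib.Algebra.MvPolynomial.Polynomial
import Mathlib.Algebra.MvPolynomial.Funext
import Mathlib.Algebra.Polynomial.Roots
import Mathlib.LinearAlgebra.Finsupp.LinearCombination
import Mathlib.LinearAlgebra.StdBasis
import Mathlib.LinearAlgebra.Basis.VectorSpace
import Mathlib.Tactic.Ring
import Mathlib.LinearAlgebra.Dimension.Free
import Mathlib.LinearAlgebra.FreeModule.Finite.Basic
/-!
# General position along a line

For a vector space `V` over an infinite field with finitely many nonzero polynomials in (various)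
linear coordinates on `V` and a point `v`: there is a line through `v` all but finitely many points
of which are off the zeros of all the polynomials.
-/

set_option autoImplicit false
universe u v

namespace K80.GenPos

open Polynomial

variable {k : Type u} [Field k] {V : Type v} [AddCommGroup V] [Module k V]

/-- Restricting a polynomial in linear coordinates to a line. -/
theorem exists_line {m : ℕ} (c : V ≃ₗ[k] (Fin m → k)) (p : MvPolynomial (Fin m) k) (v w : V) :
    ∃ g : k[X], ∀ a : k, g.eval a = MvPolynomial.eval (c (v + a • w)) p := by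
  refine ⟨MvPolynomial.aeval (fun i => C (c v i) + X * C (c w i)) p, fun a => ?_⟩
  have h := MvPolynomial.map_aeval (R := k) (fun i => C (c v i) + X * C (c w i)) (Polynomial.evalRingHom a) p
  rw [← Polynomial.coe_evalRingHom, h]
  have h2 : (Polynomial.evalRingHom a).comp (algebraMap k k[X]) = RingHom.id k :=
    RingHom.ext fun x => Polynomial.eval_C
  rw [h2, MvPolynomial.eval]
  congr 1
  apply MvPolynomial.ringHom_ext
  · intro r; simp
  · intro i; simp only [MvPolynomial.coe_eval₂Hom, MvPolynomial.eval₂_X]; simp; ring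

/-- The data of a condition: holds off the zeros of a nonzero polynomial in linear coordinates. -/
def IsGen (k : Type u) [Field k] {V : Type v} [AddCommGroup V] [Module k V] (P : V → Prop) : Prop :=
  ∃ (m : ℕ) (c : V ≃ₗ[k] (Fin m → k)) (p : MvPolynomial (Fin m) k), p ≠ 0 ∧
    ∀ φ : V, MvPolynomial.eval (c φ) p ≠ 0 → P φ

theorem IsGen.mono {P Q : V → Prop} (h : IsGen k P) (hPQ : ∀ v, P v → Q v) : IsGen k Q := by
  obtain ⟨m, c, p, hp, h⟩ := h
  exact ⟨m, c, p, hp, fun φ hφ => hPQ _ (h φ hφ)⟩

/-- Change of linear coordinates. -/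
theorem exists_change {m m' : ℕ} (c : V ≃ₗ[k] (Fin m → k)) (c' : V ≃ₗ[k] (Fin m' → k))
    (p : MvPolynomial (Fin m') k) :
    ∃ q : MvPolynomial (Fin m) k, ∀ φ : V, MvPolynomial.eval (c φ) q = MvPolynomial.eval (c' φ) p := by
  refine ⟨MvPolynomial.aeval (fun i => ∑ j, MvPolynomial.C (c' (c.symm (Pi.single j 1)) i) * MvPolynomial.X j) p,
    fun φ => ?_⟩
  have h := MvPolynomial.map_aeval (R := k)
    (fun i => ∑ j, MvPolynomial.C (c' (c.symm (Pi.single j 1)) i) * MvPolynomial.X j)
    (MvPolynomial.eval (c φ)) p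
  rw [h]
  have h2 : (MvPolynomial.eval (c φ)).comp (algebraMap k (MvPolynomial (Fin m) k)) = RingHom.id k :=
    RingHom.ext fun x => MvPolynomial.eval_C _
  rw [h2, MvPolynomial.eval]
  congr 1
  apply MvPolynomial.ringHom_ext
  · intro r; simp
  · intro i
    have h3 : φ = ∑ j, c φ j • c.symm (Pi.single j 1) := by
      apply c.injective
      rw [map_sum]
      simp only [map_smul, LinearEquiv.apply_symm_apply]
      funext i
      simp [Finset.sum_apply, Pi.single_apply]
    have h4 : c' φ i = ∑ j, c φ j * c' (c.symm (Pi.single j 1)) i := by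
      conv_lhs => rw [h3, map_sum]
      simp [Finset.sum_apply]
    simp [h4, mul_comm]

variable [Infinite k]

theorem exists_ne {m : ℕ} {p : MvPolynomial (Fin m) k} (hp : p ≠ 0) :
    ∃ x : Fin m → k, MvPolynomial.eval x p ≠ 0 := by
  by_contra hne
  push Not at hne
  exact hp (MvPolynomial.funext (by simpa using hne))

theorem IsGen.and {P Q : V → Prop} (h : IsGen k P) (h' : IsGen k Q) : IsGen k (fun v => P v ∧ Q v) := by
  obtain ⟨m, c, p, hp, h⟩ := h
  obtain ⟨m', c', p', hp', h'⟩ := h'
  obtain ⟨q, hq⟩ := exists_change c c' p'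
  refine ⟨m, c, p * q, mul_ne_zero hp ?_, fun φ hφ => ?_⟩
  · obtain ⟨x, hx⟩ := exists_ne hp'
    rintro rfl
    have := hq (c'.symm x)
    rw [LinearEquiv.apply_symm_apply] at this
    exact hx (this.symm.trans (map_zero _))
  · rw [map_mul] at hφ
    exact ⟨h φ (left_ne_zero_of_mul hφ), h' φ (hq φ ▸ right_ne_zero_of_mul hφ)⟩

omit [Infinite k] in
theorem isGen_true [Module.Finite k V] : IsGen k (fun _ : V => True) :=
  ⟨_, (Module.finBasis k V).equivFun, 1, one_ne_zero, fun _ _ => trivial⟩

theorem IsGen.all [Module.Finite k V] {ι : Type*} (s : Finset ι) {P : ι → V → Prop} (h : ∀ i ∈ s, IsGen k (P i)) :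
    IsGen k (fun v => ∀ i ∈ s, P i v) := by
  classical
  induction s using Finset.induction_on with
  | empty => exact isGen_true.mono fun v _ i hi => absurd hi (Finset.notMem_empty i)
  | insert a s ha ih =>
    refine ((h a (Finset.mem_insert_self a s)).and (ih fun i hi => h i (Finset.mem_insert_of_mem hi))).mono ?_
    intro v hv i hi
    rcases Finset.mem_insert.mp hi with rfl | hi
    · exact hv.1
    · exact hv.2 i hi

/-- A line through `v` with all but finitely many points, and all points near `v` but `v`, good. -/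
theorem IsGen.line {P : V → Prop} (h : IsGen k P) (v : V) : ∃ (w : V) (g : k[X]), g.eval 0 ≠ 0 ∧
    ∀ a : k, a ≠ 0 → g.eval a ≠ 0 → P (v + a • w) := by
  obtain ⟨m, c, p, hp, h⟩ := h
  obtain ⟨x, hx⟩ := exists_ne hp
  obtain ⟨g, hg⟩ := exists_line c p v (c.symm x - v)
  have hg0 : g ≠ 0 := by
    rintro rfl
    have := hg 1
    rw [one_smul, add_sub_cancel, LinearEquiv.apply_symm_apply] at this
    exact hx (this.symm.trans (Polynomial.eval_zero))
  obtain ⟨g₁, hg1, hg2⟩ := Polynomial.exists_eq_pow_rootMultiplicity_mul_and_not_dvd g hg0 0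
  refine ⟨c.symm x - v, g₁, fun h0 => hg2 (Polynomial.dvd_iff_isRoot.mpr h0), fun a ha hga => h _ ?_⟩
  rw [← hg a, hg1, Polynomial.eval_mul, Polynomial.eval_pow, map_zero, sub_zero, Polynomial.eval_X]
  exact mul_ne_zero (pow_ne_zero _ ha) hga

end K80.GenPos
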