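import Groth.Agent.DEquiv.K354.GraphZ
import Groth.Agent.Sga67.FlatPre
import Groth.Agent.Fitt.K360.Fiber
import Groth.Agent.S0786
import Groth.Prelude.Def_TorSh
/-!
# Locally cyclic modules are invertible modules on the subscheme of the zeroth Fitting ideal
-/

set_option autoImplicit false
universe u
open CategoryTheory CategoryTheory.Limits AlgebraicGeometry TopologicalSpace Opposite

namespace K80.LocCyc

open Groth.Agent Groth.Agent.SDiv.K474.FittSheaf Groth.Agent.CycB.StalkExact

variable {X : Scheme.{u}} [IsLocallyNoetherian X]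

omit [IsLocallyNoetherian X] in
/-- A semilinear bijection onto the local ring. -/
theorem stalk_cases {R A M : Type*} [CommRing R] [CommRing A] [AddCommGroup M] [Module A M] (ψ : R →+* A)
    (hψ : Function.Surjective ψ) (e : M ≃+ A) (he : ∀ (r : R) (m : M), e (ψ r • m) = ψ r * e m) :
    Nonempty (M ≃ₗ[A] A) := by
  refine ⟨{ e with map_smul' := fun a m => ?_ }⟩
  obtain ⟨r, rfl⟩ := hψ a
  exact he r m

/-- A coherent module which is locally generated by one element is the direct image of a module with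
local rings as stalks. -/
theorem exists_push (G : X.Modules) (hG : Coh.IsCoh G) (h1 : ∀ x, x ∉ (Fitt.sheafIdeal G 1).support) :
    ∃ N : (Fitt.sheafIdeal G 0).subscheme.Modules, Coh.IsCoh N ∧
      (∀ z, Nonempty (N.presheaf.stalk z ≃ₗ[(Fitt.sheafIdeal G 0).subscheme.presheaf.stalk z]
        (Fitt.sheafIdeal G 0).subscheme.presheaf.stalk z)) ∧
      Nonempty (G ≅ (Coh.push (Fitt.sheafIdeal G 0).subschemeι).obj N) := by
  obtain ⟨hGq, hGt⟩ := hG
  let I := Fitt.sheafIdeal G 0
  have hk : ClSub.KilledByIdeal I.subschemeι.ker G := by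
    intro U a ha m
    rw [Scheme.IdealSheafData.ker_subschemeι, sheafIdeal_ideal G hGq hGt] at ha
    have : Module.Finite Γ(X, U.1) Γ(G, U.1) := by
      have : G.IsQuasicoherent := hGq
      exact CohqB.FiniteType2.finite_sections_of_isFT G hGt U.2
    exact Module.mem_annihilator.mp (K360.FittFiber.ideal_zero_le_annihilator (R := Γ(X, U.1)) (M := Γ(G, U.1)) ha) m
  obtain ⟨N, hN, ⟨e⟩⟩ := S0786.result I.subschemeι G ⟨hGq, hGt⟩ hk
  refine ⟨N, hN, fun z => ?_, ⟨e.symm⟩⟩
  obtain ⟨ε, hε⟩ := K354.GraphZ.exists_stalkEquiv G hGq hGt z (h1 _)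
  have h3 := Sga67.FlatPre.pushAdd_bijective I.subschemeι I.subschemeι.isClosedEmbedding.isInducing N z
  let pb : ((Coh.push I.subschemeι).obj N).presheaf.stalk (I.subschemeι z) ≃+ N.presheaf.stalk z :=
    AddEquiv.ofBijective (Fdesc.PullbackStalk.pushAdd I.subschemeι N z) h3
  let θ : N.presheaf.stalk z ≃+ I.subscheme.presheaf.stalk z :=
    (pb.symm.trans (stalkLinEquiv e (I.subschemeι z)).toAddEquiv).trans ε
  refine stalk_cases (I.subschemeι.stalkMap z).hom (I.subschemeι.stalkMap_surjective z) θ fun r m => ?_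
  have h4 : pb.symm ((I.subschemeι.stalkMap z).hom r • m) = r • pb.symm m := by
    rw [AddEquiv.symm_apply_eq]
    refine Eq.trans ?_ (Fdesc.PullbackStalk.pushAdd_smul I.subschemeι N z r (pb.symm m)).symm
    exact congrArg (fun t => (I.subschemeι.stalkMap z).hom r • t) (pb.apply_symm_apply m).symm
  change ε (stalkLinEquiv e (I.subschemeι z) (pb.symm ((I.subschemeι.stalkMap z).hom r • m))) = _
  rw [h4, map_smul]
  exact hε r _

theorem exists_push_integral (G : X.Modules) (hG : Coh.IsCoh G) (h1 : ∀ x, x ∉ (Fitt.sheafIdeal G 1).support)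
    [IsIntegral (Fitt.sheafIdeal G 0).subscheme] :
    ∃ N : (Fitt.sheafIdeal G 0).subscheme.Modules, Coh.IsCoh N ∧ TorSh.IsTorsionFree N ∧
      Module.finrank ((Fitt.sheafIdeal G 0).subscheme.presheaf.stalk (genericPoint (Fitt.sheafIdeal G 0).subscheme))
        (N.presheaf.stalk (genericPoint (Fitt.sheafIdeal G 0).subscheme)) = 1 ∧
      Nonempty (G ≅ (Coh.push (Fitt.sheafIdeal G 0).subschemeι).obj N) := by
  obtain ⟨N, hN, h, e⟩ := exists_push G hG h1
  refine ⟨N, hN, fun z => ?_, ?_, e⟩
  · obtain ⟨θ⟩ := h z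
    exact θ.injective.moduleIsTorsionFree θ (map_smul θ)
  · obtain ⟨θ⟩ := h (genericPoint _)
    rw [θ.finrank_eq]
    exact Module.finrank_self _

end K80.LocCyc
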