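import Groth.Agent.Surf.K80.RankGen
import Groth.Agent.Surf.K80.LocCyc
import Groth.Agent.Surf.K462.H1Ideal
import Groth.Agent.Ega1.GenPts
import Groth.Agent.S1535
import Groth.Agent.S0558
/-!
# The cokernel of a good homomorphism `F → O^n` on a surface
-/

set_option autoImplicit false
universe u
open CategoryTheory CategoryTheory.Limits AlgebraicGeometry TopologicalSpace Opposite

namespace K80.Good

open Groth.Agent K707.Base

variable (k : Type u) [Field k] {S : Scheme.{u}} [S.Over (Spec (CommRingCat.of k))]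

/-- The degeneracy locus cut out by the `i`-th Fitting ideal off the `j`-th is smooth of codimension `c` in a
surface. -/
def Cond {E F : S.Modules} (φ : E ⟶ F) (i j c : ℕ) : Prop :=
  letI D := Fitt.sheafIdeal (cokernel φ) i
  letI W : D.subscheme.Opens :=
    D.subschemeι ⁻¹ᵁ ((Fitt.sheafIdeal (cokernel φ) j).support : TopologicalSpace.Closeds S).compl
  Smooth (W.ι ≫ D.subschemeι ≫ (S ↘ Spec (CommRingCat.of k))) ∧
    (IsEmpty W ∨ (c ≤ 2 ∧
      ∀ Z ∈ irreducibleComponents (W : Type u),
        topologicalKrullDim Z = ((2 - c : ℕ) : WithBot ℕ∞)))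

variable {k}

/-- A stratum of codimension larger than two is empty. -/
theorem Cond.notMem {E F : S.Modules} {φ : E ⟶ F} {i j c : ℕ} (h : Cond k φ i j c) (hc : 2 < c) (x : S)
    (hj : x ∉ (Fitt.sheafIdeal (cokernel φ) j).support) : x ∉ (Fitt.sheafIdeal (cokernel φ) i).support := by
  intro hi
  rcases h.2 with h | h
  · obtain ⟨z, rfl⟩ : x ∈ Set.range (Fitt.sheafIdeal (cokernel φ) i).subschemeι := by
      rw [Scheme.IdealSheafData.range_subschemeι]
      exact hi
    exact h.false ⟨z, hj⟩
  · exact absurd h.1 (by omega)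

/-- The corank is at most one everywhere. -/
theorem notMem_one [IsLocallyNoetherian S] {n : ℕ} (hn : n ≠ 0) {F : S.Modules} (hF : Coh.IsQCoh F)
    (φ : F ⟶ FlatMod.freeMod S n) (h : ∀ r < n, Cond k φ (n - r - 1) (n - r) ((n - r) * (n - r))) (x : S) :
    x ∉ (Fitt.sheafIdeal (cokernel φ) 1).support := by
  have key : ∀ d : ℕ, d < n → x ∉ (Fitt.sheafIdeal (cokernel φ) (n - d)).support := by
    intro d
    induction d with
    | zero => exact fun _ => RankGen.notMem_support_n hF φ x
    | succ d ih =>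
      intro hd
      have h1 := ih (by omega)
      have h2 := h d (by omega)
      have e : n - (d + 1) = n - d - 1 := by omega
      rw [e]
      refine h2.notMem ?_ x h1
      have h3 : 2 ≤ n - d := by omega
      nlinarith
  have e : 1 = n - (n - 1) := by omega
  rw [e]
  exact key (n - 1) (by omega)

theorem smooth_of_top {Y Z : Scheme.{u}} (W : Y.Opens) (hW : W = ⊤) (q : Y ⟶ Z) (h : Smooth (W.ι ≫ q)) :
    Smooth q := by
  subst hW
  have hi : IsIso (⊤ : Y.Opens).ι := inferInstanceAs (IsIso Y.topIso.hom)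
  have h2 : q = inv (⊤ : Y.Opens).ι ≫ ((⊤ : Y.Opens).ι ≫ q) := (IsIso.inv_hom_id_assoc (⊤ : Y.Opens).ι q).symm
  rw [h2]
  infer_instance

theorem dim_of_top {Y : Scheme.{u}} [IrreducibleSpace Y] (W : Y.Opens) (hW : W = ⊤) {c : WithBot ℕ∞}
    (h : ∀ Z ∈ irreducibleComponents (W : Type u), topologicalKrullDim Z = c) : topologicalKrullDim Y = c := by
  subst hW
  have e1 : IsHomeomorph (Subtype.val : ((⊤ : Y.Opens) : Type u) → Y) :=
    (Homeomorph.Set.univ Y).isHomeomorph
  have : IrreducibleSpace ((⊤ : Y.Opens) : Type u) :=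
    Function.Surjective.irreducibleSpace (Homeomorph.Set.univ Y).symm.continuous (Homeomorph.Set.univ Y).symm.surjective
  have h2 := h Set.univ (by rw [irreducibleComponents_eq_singleton]; rfl)
  rw [← h2, ← IsHomeomorph.topologicalKrullDim_eq _ e1]
  exact (IsHomeomorph.topologicalKrullDim_eq _
    (Homeomorph.Set.univ ((⊤ : Y.Opens) : Type u)).isHomeomorph).symm

theorem cond_one {n : ℕ} (hn : n ≠ 0) {F : S.Modules} (φ : F ⟶ FlatMod.freeMod S n)
    (h : ∀ r < n, Cond k φ (n - r - 1) (n - r) ((n - r) * (n - r)))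
    (h1 : ∀ x, x ∉ (Fitt.sheafIdeal (cokernel φ) 1).support) :
    Smooth ((Fitt.sheafIdeal (cokernel φ) 0).subschemeι ≫ (S ↘ Spec (CommRingCat.of k))) ∧
      (IrreducibleSpace (Fitt.sheafIdeal (cokernel φ) 0).subscheme →
        topologicalKrullDim (Fitt.sheafIdeal (cokernel φ) 0).subscheme = 1) := by
  have h2 := h (n - 1) (by omega)
  have e1 : n - (n - 1) = 1 := by omega
  rw [e1] at h2
  obtain ⟨h3, h4⟩ := h2
  have hW : (Fitt.sheafIdeal (cokernel φ) 0).subschemeι ⁻¹ᵁ
      ((Fitt.sheafIdeal (cokernel φ) 1).support : TopologicalSpace.Closeds S).compl = ⊤ := by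
    rw [eq_top_iff]
    intro z _
    exact h1 _
  constructor
  · exact smooth_of_top _ hW _ h3
  · intro hirr
    rcases h4 with h4 | h4
    · exfalso
      obtain ⟨z⟩ := hirr.toNonempty
      exact h4.false ⟨z, h1 _⟩
    · exact dim_of_top _ hW h4.2

variable [IsIntegral S]

theorem genericPoint_notMem (hdim : topologicalKrullDim S = 2) {n : ℕ} (hn : n ≠ 0) {F : S.Modules}
    (φ : F ⟶ FlatMod.freeMod S n)
    (h : ∀ r < n, Cond k φ (n - r - 1) (n - r) ((n - r) * (n - r)))
    (h1 : ∀ x, x ∉ (Fitt.sheafIdeal (cokernel φ) 1).support) :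
    genericPoint S ∉ (Fitt.sheafIdeal (cokernel φ) 0).support := by
  intro hη
  let D := Fitt.sheafIdeal (cokernel φ) 0
  have hs : (D.support : Set S) = Set.univ := by
    rw [Set.eq_univ_iff_forall]
    intro x
    exact (genericPoint_specializes x).mem_closed D.support.2 hη
  have hsurj : Function.Surjective D.subschemeι := by
    rw [← Set.range_eq_univ, Scheme.IdealSheafData.range_subschemeι, hs]
  have hhom : IsHomeomorph D.subschemeι :=
    (isHomeomorph_iff_isEmbedding_surjective).mpr ⟨D.subschemeι.isClosedEmbedding.isEmbedding, hsurj⟩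
  have hirr : IrreducibleSpace D.subscheme :=
    Function.Surjective.irreducibleSpace hhom.homeomorph.symm.continuous hhom.homeomorph.symm.surjective
  have h2 := (cond_one hn φ h h1).2 hirr
  rw [IsHomeomorph.topologicalKrullDim_eq _ hhom, hdim] at h2
  exact absurd h2 (by decide)

theorem mono_of_cond [IsLocallyNoetherian S] (hdim : topologicalKrullDim S = 2) {n : ℕ} (hn : n ≠ 0) {F : S.Modules}
    (hF : FlatMod.IsFinLocFreeOfRank n F) (φ : F ⟶ FlatMod.freeMod S n)
    (h : ∀ r < n, Cond k φ (n - r - 1) (n - r) ((n - r) * (n - r))) : Mono φ := by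
  have hc := FittDet.isCoh_coker (isCoh_of_rank hF).1 φ
  exact RankGen.mono_of_coker hF (RankGen.rank_freeMod S n) φ
    (RankGen.subsingleton_stalk hc.1 hc.2 _
      (genericPoint_notMem hdim hn φ h (notMem_one hn (isCoh_of_rank hF).1 φ h)))

omit [S.Over (Spec (CommRingCat.of k))] in
theorem nonempty_subscheme [IsLocallyNoetherian S] {n : ℕ} (hn : n ≠ 0) {F : S.Modules}
    (hF : Coh.IsQCoh F) (hFO : ∀ v : Coh.structureModule S ⟶ F, v = 0)
    (φ : F ⟶ FlatMod.freeMod S n) [Mono φ] : Nonempty (Fitt.sheafIdeal (cokernel φ) 0).subscheme := by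
  by_contra hne
  have hc := FittDet.isCoh_coker hF φ
  have hz : IsZero (cokernel φ) := by
    rw [VarietyB.ExactLoc.isZero_iff_stalk]
    intro x
    refine RankGen.subsingleton_stalk hc.1 hc.2 x fun hx => hne ?_
    obtain ⟨z, -⟩ : x ∈ Set.range (Fitt.sheafIdeal (cokernel φ) 0).subschemeι := by
      rw [Scheme.IdealSheafData.range_subschemeι]
      exact hx
    exact ⟨z⟩
  have hepi : Epi φ := Preadditive.epi_of_isZero_cokernel φ hz
  have hiso : IsIso φ := isIso_of_mono_of_epi φ
  let i : Fin n := ⟨0, Nat.pos_of_ne_zero hn⟩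
  have h1 : Limits.Sigma.ι (fun _ : Fin n => Coh.structureModule S) i = 0 := by
    have h2 := hFO (Limits.Sigma.ι (fun _ : Fin n => Coh.structureModule S) i ≫ inv φ)
    rw [← cancel_mono (inv φ), h2, zero_comp]
  have h3 : 𝟙 (Coh.structureModule S) = 0 := by
    have h4 := Dcoh.FreeSec.ι_pr (X := S) i i
    rw [h1, zero_comp] at h4
    simpa using h4.symm
  have h5 : Dcoh.FinLocFree.unitSec (𝟙 (Coh.structureModule S)) = 0 := by
    rw [h3]
    exact map_zero (Dcoh.FinLocFree.unitEquiv (Coh.structureModule S))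
  have h6 : (1 : Γ(S, ⊤)) = 0 := h5
  have := K462.H1Ideal.nontrivial_top S
  exact one_ne_zero h6

/-- The cokernel of a good homomorphism. -/
theorem main [IsProper (S ↘ Spec (CommRingCat.of k))] (hdim : topologicalKrullDim S = 2) {n : ℕ} (hn : n ≠ 0)
    {F : S.Modules} (hF : FlatMod.IsFinLocFreeOfRank n F) (hFO : ∀ v : Coh.structureModule S ⟶ F, v = 0)
    (φ : F ⟶ FlatMod.freeMod S n) (h : ∀ r < n, Cond k φ (n - r - 1) (n - r) ((n - r) * (n - r)))
    (hH : Mono φ → Subsingleton (Coh.HH S (ClSub.idealMod (Fitt.sheafIdeal (cokernel φ) 0)) 1)) :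
    Mono φ ∧ ∃ (I : S.IdealSheafData) (_ : IsIntegral I.subscheme)
            (_ : Smooth (I.subschemeι ≫ (S ↘ Spec (CommRingCat.of k))))
            (_ : topologicalKrullDim I.subscheme = 1)
            (N : I.subscheme.Modules) (_ : Coh.IsCoh N) (_ : TorSh.IsTorsionFree N)
            (_ : Module.finrank (I.subscheme.presheaf.stalk (genericPoint I.subscheme))
                (N.presheaf.stalk (genericPoint I.subscheme)) = 1),
            Nonempty (cokernel φ ≅ (Coh.push I.subschemeι).obj N) := by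
  have hN : IsLocallyNoetherian S := LocallyOfFiniteType.isLocallyNoetherian (S ↘ Spec (CommRingCat.of k))
  have hFq := (isCoh_of_rank hF).1
  have h1 := notMem_one hn hFq φ h
  obtain ⟨h2, h3⟩ := cond_one hn φ h h1
  have hmono := mono_of_cond hdim hn hF φ h
  have hne := nonempty_subscheme hn hFq hFO φ
  have hconn := K462.H1Ideal.connectedSpace_of_h1 k (S ↘ Spec (CommRingCat.of k))
    (Fitt.sheafIdeal (cokernel φ) 0) hne (hH hmono)
  have hint : IsIntegral (Fitt.sheafIdeal (cokernel φ) 0).subscheme := by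
    let _ : (Fitt.sheafIdeal (cokernel φ) 0).subscheme.Over (Spec (CommRingCat.of k)) :=
      ⟨(Fitt.sheafIdeal (cokernel φ) 0).subschemeι ≫ (S ↘ Spec (CommRingCat.of k))⟩
    have hsm : Smooth ((Fitt.sheafIdeal (cokernel φ) 0).subscheme ↘ Spec (CommRingCat.of k)) := h2
    have hln : IsLocallyNoetherian (Fitt.sheafIdeal (cokernel φ) 0).subscheme :=
      LocallyOfFiniteType.isLocallyNoetherian
        ((Fitt.sheafIdeal (cokernel φ) 0).subscheme ↘ Spec (CommRingCat.of k))
    rw [Ega1.GenPts.isIntegral_iff]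
    refine ⟨hconn, fun x => ?_⟩
    have := S1535.result k (Fitt.sheafIdeal (cokernel φ) 0).subscheme x
    exact S0558.result _
  obtain ⟨N, hN1, hN2, hN3, e⟩ := LocCyc.exists_push_integral (cokernel φ) (FittDet.isCoh_coker hFq φ) h1
  exact ⟨hmono, Fitt.sheafIdeal (cokernel φ) 0, hint, h2, h3 inferInstance, N, hN1, hN2, hN3, e⟩

end K80.Good
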