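import Groth.Agent.S15857
import Groth.Agent.Surf.K80.GenPos
import Groth.Agent.Surf.K80.Good
/-!
# General homomorphisms satisfy the conditions of `K80.Good`
-/

set_option autoImplicit false
universe u
open CategoryTheory CategoryTheory.Limits AlgebraicGeometry TopologicalSpace Opposite

namespace K80.GenCond

open Groth.Agent K707.Base

variable (k : Type u) [Field k] [IsAlgClosed k] [CharZero k] (S : Scheme.{u}) [S.Over (Spec (CommRingCat.of k))]
  [IsIntegral S] [Smooth (S ↘ Spec (CommRingCat.of k))] [IsProper (S ↘ Spec (CommRingCat.of k))]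

theorem isGen_cond (hdim : topologicalKrullDim S = 2) {n : ℕ} {F : S.Modules}
    (hF : FlatMod.IsFinLocFreeOfRank n F) [DCoh.HasSheafHom F]
    (hgg : Curv2.IsGloballyGenerated ((DCoh.sheafHom F).obj (FlatMod.freeMod S n))) :
    GenPos.IsGen k (fun φ : F ⟶ FlatMod.freeMod S n => ∀ r < n, Good.Cond k φ (n - r - 1) (n - r) ((n - r) * (n - r))) := by
  have hfin : Module.Finite k (F ⟶ FlatMod.freeMod S n) :=
    K706.HomFin.finite_hom k (isFinLocFree_of_rank hF) (isFinLocFree_of_rank (RankGen.rank_freeMod S n))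
  refine (GenPos.IsGen.all (k := k) (Finset.range n)
    (P := fun r (φ : F ⟶ FlatMod.freeMod S n) => Good.Cond k φ (n - r - 1) (n - r) ((n - r) * (n - r)))
    fun r hr => ?_).mono (fun φ h r hr => h r (Finset.mem_range.mpr hr))
  obtain ⟨m, c, p, hp, h⟩ := S15857.result k S 2 hdim F (FlatMod.freeMod S n) n n hF
    (RankGen.rank_freeMod S n) hgg r (Finset.mem_range.mp hr) (Finset.mem_range.mp hr)
  exact ⟨m, c, p, hp, fun φ hφ => h φ hφ⟩

end K80.GenCond
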