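import Mathlib.AlgebraicGeometry.ResidueField
import Mathlib.AlgebraicGeometry.FunctionField
import Mathlib.AlgebraicGeometry.Morphisms.Smooth
import Mathlib.RingTheory.KrullDimension.PID
import Mathlib.RingTheory.Smooth.Basic
import Mathlib.FieldTheory.IsAlgClosed.Basic
import Mathlib.AlgebraicGeometry.Pullbacks
/-!
# Open subsets of the affine line over an algebraically closed field

`T k g` is the locus `g ≠ 0` of the affine line; `pt a` its points, `exists_pt`: every section of
`T → Spec k` is one of them; `point_cases`: every point of `T` is generic or one of them.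
-/

set_option autoImplicit false
universe u
open CategoryTheory CategoryTheory.Limits AlgebraicGeometry

namespace K80.ALine

open Polynomial

variable (k : Type u) [Field k] (g : k[X])

/-- The open subset `g ≠ 0` of the affine line. -/
noncomputable abbrev T : Scheme.{u} := Spec (CommRingCat.of (Localization.Away g))

/-- The structure morphism. -/
noncomputable def pT : T k g ⟶ Spec (CommRingCat.of k) :=
  Spec.map (CommRingCat.ofHom (algebraMap k (Localization.Away g)))

variable {k g}

theorem isDomain (hg : g ≠ 0) : IsDomain (Localization.Away g) :=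
  IsLocalization.isDomain_localization (powers_le_nonZeroDivisors_of_noZeroDivisors hg)

theorem isPrincipalIdealRing : IsPrincipalIdealRing (Localization.Away g) := by
  refine ⟨fun I => ?_⟩
  obtain ⟨a, ha⟩ := (IsPrincipalIdealRing.principal (I.under k[X])).principal
  refine ⟨algebraMap k[X] (Localization.Away g) a, ?_⟩
  rw [← IsLocalization.map_under (Submonoid.powers g) (Localization.Away g) I, ha, Ideal.submodule_span_eq,
    Ideal.map_span, Set.image_singleton]

/-- Evaluation at `a`. -/
noncomputable def ev (a : k) (ha : g.eval a ≠ 0) : Localization.Away g →+* k :=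
  IsLocalization.Away.lift g (g := evalRingHom a) (by simpa using ha)

theorem ev_algebraMap (a : k) (ha : g.eval a ≠ 0) (q : k[X]) :
    ev a ha (algebraMap k[X] (Localization.Away g) q) = q.eval a :=
  IsLocalization.Away.lift_eq g _ q

theorem ev_algebraMap_base (a : k) (ha : g.eval a ≠ 0) (c : k) :
    ev a ha (algebraMap k (Localization.Away g) c) = c := by
  rw [IsScalarTower.algebraMap_apply k k[X] (Localization.Away g), ev_algebraMap]
  simp

/-- The coordinate. -/
noncomputable def coordR (g : k[X]) : Localization.Away g := algebraMap k[X] (Localization.Away g) X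

theorem ev_coordR (a : k) (ha : g.eval a ≠ 0) : ev a ha (coordR g) = a := by
  rw [coordR, ev_algebraMap, eval_X]

theorem not_isField (h0 : g.eval 0 ≠ 0) : ¬ IsField (Localization.Away g) := by
  intro hF
  have hg : g ≠ 0 := by rintro rfl; simp at h0
  have hinj : Function.Injective (algebraMap k[X] (Localization.Away g)) :=
    IsLocalization.injective _ (powers_le_nonZeroDivisors_of_noZeroDivisors hg)
  have hne : coordR g ≠ 0 := fun h => X_ne_zero (hinj (h.trans (map_zero _).symm))
  obtain ⟨b, hb⟩ := hF.mul_inv_cancel hne
  have := congrArg (ev 0 h0) hb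
  rw [map_mul, ev_coordR, zero_mul, map_one] at this
  exact zero_ne_one this

theorem isIntegral_T (hg : g ≠ 0) : IsIntegral (T k g) := by
  have := isDomain hg
  infer_instance

theorem krullDim_T (h0 : g.eval 0 ≠ 0) : topologicalKrullDim (T k g) = 1 := by
  have hg : g ≠ 0 := by rintro rfl; simp at h0
  have := isDomain hg
  have := isPrincipalIdealRing (g := g)
  have h := IsPrincipalIdealRing.ringKrullDim_eq_one (Localization.Away g) (not_isField h0)
  rw [← h]
  exact PrimeSpectrum.topologicalKrullDim_eq_ringKrullDim (Localization.Away g)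

theorem smooth_pT : Smooth (pT k g) := by
  have h1 : Algebra.Smooth k k[X] := by
    have : Algebra.Smooth k (MvPolynomial PUnit.{u+1} k) := ⟨inferInstance, inferInstance⟩
    exact Algebra.Smooth.of_equiv (MvPolynomial.uniqueAlgEquiv k PUnit.{u+1})
  have h2 : Algebra.Smooth k[X] (Localization.Away g) := Algebra.Smooth.of_isLocalization_Away g
  have h3 : Algebra.Smooth k (Localization.Away g) := Algebra.Smooth.comp k k[X] _
  rw [pT, HasRingHomProperty.Spec_iff (P := @Smooth)]
  exact (RingHom.smooth_algebraMap ..).mpr h3

/-- The point `a`. -/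
noncomputable def pt (a : k) (ha : g.eval a ≠ 0) : Spec (CommRingCat.of k) ⟶ T k g :=
  Spec.map (CommRingCat.ofHom (ev a ha))

theorem pt_pT (a : k) (ha : g.eval a ≠ 0) : pt a ha ≫ pT k g = 𝟙 _ := by
  rw [pt, pT, ← Spec.map_comp, ← CommRingCat.ofHom_comp, ← Spec.map_id]
  congr 1
  ext c
  exact ev_algebraMap_base a ha c

theorem exists_pt (t : Spec (CommRingCat.of k) ⟶ T k g) (ht : t ≫ pT k g = 𝟙 _) :
    ∃ (a : k) (ha : g.eval a ≠ 0), t = pt a ha := by
  obtain ⟨θ, rfl⟩ := Spec.map_surjective t
  have h1 : ∀ c : k, θ.hom (algebraMap k (Localization.Away g) c) = c := by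
    rw [pT, ← Spec.map_comp, ← Spec.map_id] at ht
    have := Spec.map_injective ht
    intro c
    exact congr($(this).hom c)
  let a : k := θ.hom (coordR g)
  have h2 : θ.hom.comp (algebraMap k[X] (Localization.Away g)) = evalRingHom a := by
    apply Polynomial.ringHom_ext
    · intro c
      rw [RingHom.comp_apply, ← Polynomial.algebraMap_eq,
        ← IsScalarTower.algebraMap_apply k k[X] (Localization.Away g), h1]
      simp
    · simp [a, coordR]
  have ha : g.eval a ≠ 0 := by
    have h3 : IsUnit (θ.hom (algebraMap k[X] (Localization.Away g) g)) :=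
      (IsLocalization.Away.algebraMap_isUnit g).map θ.hom
    have h4 : θ.hom (algebraMap k[X] (Localization.Away g) g) = g.eval a := congr($(h2) g)
    rw [h4] at h3
    exact h3.ne_zero
  refine ⟨a, ha, ?_⟩
  rw [pt]
  congr 1
  ext1
  apply IsLocalization.ringHom_ext (Submonoid.powers g)
  rw [h2]
  exact RingHom.ext fun q => (ev_algebraMap a ha q).symm

theorem point_cases [IsAlgClosed k] (hg : g ≠ 0) (x : T k g) :
    IsField ((T k g).presheaf.stalk x) ∨ ∃ (a : k) (ha : g.eval a ≠ 0), x = pt a ha (default : PrimeSpectrum k) := by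
  have := isDomain hg
  have hI := isIntegral_T (k := k) hg
  have := isPrincipalIdealRing (g := g)
  by_cases hx : (x : PrimeSpectrum (Localization.Away g)).asIdeal = ⊥
  · left
    have hx2 : x = genericPoint (T k g) := by
      rw [genericPoint_eq_bot_of_affine]
      exact PrimeSpectrum.ext hx
    subst hx2
    exact Field.toIsField (T k g).functionField
  · right
    have hinj : Function.Injective (algebraMap k[X] (Localization.Away g)) :=
      IsLocalization.injective _ (powers_le_nonZeroDivisors_of_noZeroDivisors hg)
    let P : Ideal k[X] := (x : PrimeSpectrum (Localization.Away g)).asIdeal.comap (algebraMap k[X] (Localization.Away g))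
    have hxp : (x : PrimeSpectrum (Localization.Away g)).asIdeal.IsPrime :=
      (x : PrimeSpectrum (Localization.Away g)).isPrime
    have hP : P.IsPrime := Ideal.IsPrime.comap _
    have hP0 : P ≠ ⊥ := by
      intro h
      apply hx
      rw [← IsLocalization.map_under (Submonoid.powers g) (Localization.Away g) x.asIdeal]
      change Ideal.map _ P = ⊥
      rw [h, Ideal.map_bot]
    obtain ⟨f, hfP, hf0⟩ := Submodule.exists_mem_ne_zero_of_ne_bot hP0
    have hs := IsAlgClosed.splits f
    obtain ⟨a, haP⟩ : ∃ a : k, X - C a ∈ P := by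
      have h1 := hs.eq_prod_roots
      rw [h1] at hfP
      rcases hP.mem_or_mem hfP with h | h
      · exfalso
        refine hP.ne_top (Ideal.eq_top_of_isUnit_mem _ h ?_)
        exact isUnit_C.mpr (isUnit_iff_ne_zero.mpr (leadingCoeff_ne_zero.mpr hf0))
      · obtain ⟨q, hq, hqP⟩ := (hP.multiset_prod_mem_iff_exists_mem _).mp h
        obtain ⟨a, -, rfl⟩ := Multiset.mem_map.mp hq
        exact ⟨a, hqP⟩
    have ha : g.eval a ≠ 0 := by
      intro h
      obtain ⟨q, hq⟩ := Polynomial.dvd_iff_isRoot.mpr h
      have : g ∈ P := hq ▸ P.mul_mem_right q haP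
      exact (x : PrimeSpectrum (Localization.Away g)).isPrime.ne_top
        (Ideal.eq_top_of_isUnit_mem _ this (IsLocalization.Away.algebraMap_isUnit g))
    refine ⟨a, ha, ?_⟩
    have hmax : (RingHom.ker (ev a ha)).IsMaximal :=
      RingHom.ker_isMaximal_of_surjective _ fun c => ⟨_, ev_algebraMap_base a ha c⟩
    have hle : RingHom.ker (ev a ha) ≤ (x : PrimeSpectrum (Localization.Away g)).asIdeal := by
      intro z hz
      obtain ⟨⟨q, m⟩, hqm⟩ := IsLocalization.surj (Submonoid.powers g) z
      have hq0 : q.eval a = 0 := by
        rw [← ev_algebraMap a ha q, ← hqm, map_mul]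
        rw [RingHom.mem_ker] at hz
        rw [hz, zero_mul]
      obtain ⟨r, hr⟩ := Polynomial.dvd_iff_isRoot.mpr hq0
      have h1 : algebraMap k[X] (Localization.Away g) q ∈ (x : PrimeSpectrum (Localization.Away g)).asIdeal := by
        have : q ∈ P := hr ▸ P.mul_mem_right r haP
        exact this
      rw [← hqm] at h1
      exact (Ideal.mul_unit_mem_iff_mem _ (IsLocalization.map_units _ m)).mp h1
    have heq := hmax.eq_of_le (x : PrimeSpectrum (Localization.Away g)).isPrime.ne_top hle
    refine PrimeSpectrum.ext (heq.symm.trans ?_)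
    change RingHom.ker (ev a ha) = Ideal.comap (ev a ha) (default : PrimeSpectrum k).asIdeal
    rw [RingHom.ker_eq_comap_bot]
    congr 1
    exact ((Ideal.eq_bot_or_top _).resolve_right (default : PrimeSpectrum k).isPrime.ne_top).symm

end K80.ALine
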