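import Groth.Agent.SDiv.K474.FittSheaf
import Groth.Agent.Fitt.K360.ExtTwoTerm
import Groth.Agent.PerfA.IdealModule
import Groth.Agent.PerfA.QCohEpi
import Groth.Agent.ExtPow.K875.PowSec
import Groth.Agent.Dcoh.FreeSec
import Groth.Agent.Dcoh.FinLocFree
import Groth.Agent.Sga2.PnHomExact
import Groth.Agent.PerfA.CohSerre

/-!
# The zeroth Fitting ideals of the cokernels of two injective maps `F → O^n`, `F` locally free of rank `n`

* `ideal_zero_coker`: the zeroth Fitting ideal of the cokernel of a square matrix;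
* `sheafIdeal_eq_span`: over an affine open with a basis of `F`;
* `nonempty_iso`: for two monomorphisms the two ideals are isomorphic as modules.
-/

set_option autoImplicit false
universe u
open CategoryTheory CategoryTheory.Limits AlgebraicGeometry Opposite TopologicalSpace

namespace K80.FittDet

section Ring

variable {R N G : Type u} [CommRing R] [AddCommGroup N] [Module R N] [AddCommGroup G] [Module R G] {n : ℕ}

/-- The matrix of a map to `R^n`. -/
def mat (b : Fin n → N) (α : N →ₗ[R] (Fin n → R)) : Matrix (Fin n) (Fin n) R := Matrix.of fun i j => α (b i) j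

theorem minorIdeal_square (α : (Fin n → R) →ₗ[R] (Fin n → R)) :
    K360.ExtTwoTerm.minorIdeal α = Ideal.span {(mat (fun i => Pi.single i 1) α).det} := by
  classical
  apply le_antisymm
  · rw [K360.ExtTwoTerm.minorIdeal, Ideal.span_le]
    rintro _ ⟨e, rfl⟩
    have h : (Matrix.of fun a b => α (Pi.single b 1) (e a)) =
        (Matrix.of fun a c => if c = e a then (1 : R) else 0) * (mat (fun i => Pi.single i 1) α).transpose := by
      ext a b
      simp [Matrix.mul_apply, mat]
    rw [h, Matrix.det_mul, Matrix.det_transpose]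
    exact Ideal.mul_mem_left _ _ (Ideal.subset_span rfl)
  · rw [Ideal.span_le, Set.singleton_subset_iff]
    refine Ideal.subset_span ⟨id, ?_⟩
    rw [← Matrix.det_transpose]
    rfl

theorem ideal_zero_coker (b : Module.Basis (Fin n) R N) (α : N →ₗ[R] (Fin n → R)) (π : (Fin n → R) →ₗ[R] G)
    (hπ : Function.Surjective π) (hex : Function.Exact α π) :
    Fitt.ideal R G 0 = Ideal.span {(mat b α).det} := by
  let α' : (Fin n → R) →ₗ[R] (Fin n → R) := α ∘ₗ b.equivFun.symm.toLinearMap
  have hex' : Function.Exact α' π := by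
    intro y
    rw [hex y]
    constructor
    · rintro ⟨x, rfl⟩
      exact ⟨b.equivFun x, by simp [α']⟩
    · rintro ⟨x, rfl⟩
      exact ⟨_, rfl⟩
  have h := K360.ExtTwoTerm.ideal_coker (c := n) (r := n) le_rfl α' π hπ hex'
  rw [Nat.sub_self, minorIdeal_square] at h
  rw [h]
  congr 3
  ext i j
  simp only [mat, Matrix.of_apply, α', LinearMap.comp_apply, LinearEquiv.coe_coe]
  rw [Module.Basis.equivFun_symm_apply]
  simp [Pi.single_apply]

theorem det_ne_zero [IsDomain R] (b : Module.Basis (Fin n) R N) (α : N →ₗ[R] (Fin n → R))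
    (hα : Function.Injective α) : (mat b α).det ≠ 0 := by
  intro h
  obtain ⟨v, hv, hv0⟩ := Matrix.exists_vecMul_eq_zero_iff.2 h
  apply hv
  have h1 : α (∑ i, v i • b i) = 0 := by
    rw [map_sum]
    funext j
    have h2 := congrFun hv0 j
    rw [Finset.sum_apply]
    simpa [Matrix.vecMul, dotProduct, mat] using h2
  have h3 : ∑ i, v i • b i = 0 := hα (by rw [h1, map_zero])
  have h4 := b.linearIndependent
  rw [Fintype.linearIndependent_iff] at h4
  funext i
  exact h4 v h3 i

/-- Change of basis. -/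
theorem det_change (b b' : Fin n → N) (g : Matrix (Fin n) (Fin n) R) (hg : ∀ i, b i = ∑ j, g i j • b' j)
    (α : N →ₗ[R] (Fin n → R)) : (mat b α).det = g.det * (mat b' α).det := by
  rw [← Matrix.det_mul]
  congr 1
  ext i j
  simp only [mat, Matrix.of_apply, Matrix.mul_apply]
  rw [hg, map_sum, Finset.sum_apply]
  simp

/-- Isomorphism of principal ideals of a domain. -/
theorem exists_equiv [IsDomain R] {a c : R} (ha : a ≠ 0) (hc : c ≠ 0) (I J : Ideal R) (hI : I = Ideal.span {a})
    (hJ : J = Ideal.span {c}) : ∃ e : I ≃ₗ[R] J, ∀ (r : R) (h : r * a ∈ I), (e ⟨r * a, h⟩ : R) = r * c := by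
  subst hI hJ
  let e₁ : R ≃ₗ[R] Ideal.span {a} := LinearEquiv.toSpanNonzeroSingleton R R a ha
  let e₂ : R ≃ₗ[R] Ideal.span {c} := LinearEquiv.toSpanNonzeroSingleton R R c hc
  refine ⟨e₁.symm ≪≫ₗ e₂, fun r h => ?_⟩
  have h1 : (⟨r * a, h⟩ : Ideal.span {a}) = e₁ r := Subtype.ext (by simp [e₁])
  rw [h1, LinearEquiv.trans_apply, LinearEquiv.symm_apply_apply]
  simp [e₂]

end Ring

section Scheme

open Groth.Agent Groth.Agent.Sga67.Sec Groth.Agent.Sga67.LocBasis Groth.Agent.Dcoh.FreeSec

variable {X : Scheme.{u}} {F : X.Modules} {n : ℕ}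

/-- Coordinates of sections of `O^n`. -/
noncomputable def co (X : Scheme.{u}) (n : ℕ) (U : X.Opens) :
    Sec (FlatMod.freeMod X n) U →ₗ[Γ(X, U)] (Fin n → Γ(X, U)) :=
  LinearMap.pi fun j => (show Sec (FlatMod.freeMod X n) U →ₗ[Γ(X, U)] Γ(X, U) from appS (pr X j) U)

theorem co_apply (U : X.Opens) (s : Sec (FlatMod.freeMod X n) U) (j : Fin n) :
    co X n U s j = (show Γ(X, U) from appS (pr X j) U s) := rfl

theorem appS_sum {M N : X.Modules} {ι : Type*} (J : Finset ι) (f : ι → (M ⟶ N)) (U : X.Opens) (s : Sec M U) :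
    appS (∑ i ∈ J, f i) U s = ∑ i ∈ J, appS (f i) U s := by
  classical
  induction J using Finset.induction_on with
  | empty => rfl
  | insert a J ha ih => rw [Finset.sum_insert ha, Finset.sum_insert ha, appS_add, ih]

theorem sum_co (U : X.Opens) (s : Sec (FlatMod.freeMod X n) U) :
    ∑ j, appS (Sigma.ι (fun _ : Fin n => Coh.structureModule X) j) U (appS (pr X j) U s) = s := by
  have h := congrArg (fun f => appS f U s) (sum_pr_ι (X := X) (n := n))
  simp only [appS_sum, appS_comp, appS_id] at h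
  exact h

theorem co_injective (U : X.Opens) : Function.Injective (co X n U) := by
  rw [← LinearMap.ker_eq_bot, LinearMap.ker_eq_bot']
  intro s hs
  rw [← sum_co U s]
  refine Finset.sum_eq_zero fun j _ => ?_
  have h : appS (pr X j) U s = 0 := congrFun hs j
  rw [h, map_zero]

theorem co_surjective (U : X.Opens) : Function.Surjective (co X n U) := by
  intro a
  refine ⟨∑ j, appS (Sigma.ι (fun _ : Fin n => Coh.structureModule X) j) U (show Sec (Coh.structureModule X) U from a j),
    ?_⟩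
  funext i
  rw [co_apply, map_sum]
  have h : ∀ j, appS (pr X i) U (appS (Sigma.ι (fun _ : Fin n => Coh.structureModule X) j) U
      (show Sec (Coh.structureModule X) U from a j)) = if j = i then (show Sec (Coh.structureModule X) U from a j) else 0 := by
    intro j
    rw [← appS_comp, ι_pr]
    split_ifs
    · rfl
    · rfl
  simp only [h]
  have h2 : (∑ x, if x = i then a x else 0 : Γ(X, U)) = a i := by simp
  exact h2

theorem co_res {U V : X.Opens} (h : V ≤ U) (s : Sec (FlatMod.freeMod X n) U) (j : Fin n) :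
    co X n V (res _ h s) j = resO X h (co X n U s j) := by
  rw [co_apply, co_apply, appS_res]
  rfl

/-- The linear equivalence. -/
noncomputable def coE (X : Scheme.{u}) (n : ℕ) (U : X.Opens) :
    Sec (FlatMod.freeMod X n) U ≃ₗ[Γ(X, U)] (Fin n → Γ(X, U)) :=
  LinearEquiv.ofBijective (co X n U) ⟨co_injective U, co_surjective U⟩

/-- The matrix of `φ` over `U`. -/
noncomputable def mt (φ : F ⟶ FlatMod.freeMod X n) {U : X.Opens} (b : Fin n → Sec F U) : Matrix (Fin n) (Fin n) Γ(X, U) :=
  mat b (co X n U ∘ₗ appS φ U)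

theorem mt_res (φ : F ⟶ FlatMod.freeMod X n) {U V : X.Opens} (h : V ≤ U) (b : Fin n → Sec F U) :
    mt φ (fun i => res F h (b i)) = (mt φ b).map (resO X h) := by
  ext i j
  change co X n V (appS φ V (res F h (b i))) j = resO X h (co X n U (appS φ U (b i)) j)
  rw [appS_res, co_res]

theorem det_res (φ : F ⟶ FlatMod.freeMod X n) {U V : X.Opens} (h : V ≤ U) (b : Fin n → Sec F U) :
    (mt φ (fun i => res F h (b i))).det = resO X h (mt φ b).det := by
  rw [mt_res, RingHom.map_det]
  rfl

variable [IsLocallyNoetherian X]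

theorem isCoh_freeMod (X : Scheme.{u}) [IsLocallyNoetherian X] (n : ℕ) : Coh.IsCoh (FlatMod.freeMod X n) :=
  PerfA.CohSerre.isCoh_of_isFinLocFree (Dcoh.FinLocFree.isFinLocFree_freeMod X n)

theorem isCoh_coker (hF : Coh.IsQCoh F) (φ : F ⟶ FlatMod.freeMod X n) : Coh.IsCoh (cokernel φ) :=
  PerfA.CohSerre.isCoh_cokernel φ hF (isCoh_freeMod X n)

theorem sheafIdeal_eq_span (hF : Coh.IsQCoh F) (φ : F ⟶ FlatMod.freeMod X n) [Mono φ] (U : X.affineOpens)
    (b : Module.Basis (Fin n) Γ(X, U.1) (Sec F U.1)) :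
    (Fitt.sheafIdeal (cokernel φ) 0).ideal U = Ideal.span {(mt φ b).det} := by
  have hG := isCoh_coker hF φ
  have hO : Coh.IsQCoh (FlatMod.freeMod X n) := (isCoh_freeMod X n).1
  have hGq : Coh.IsQCoh (cokernel φ) := hG.1
  rw [SDiv.K474.FittSheaf.sheafIdeal_ideal _ hG.1 hG.2]
  have hsurj : Function.Surjective (appS (cokernel.π φ) U.1) := PerfA.QCohEpi.app_surjective_of_epi (cokernel.π φ) U.2
  refine ideal_zero_coker (G := Sec (cokernel φ) U.1) b (co X n U.1 ∘ₗ appS φ U.1)
    (appS (cokernel.π φ) U.1 ∘ₗ (coE X n U.1).symm.toLinearMap) ?_ ?_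
  · exact hsurj.comp (coE X n U.1).symm.surjective
  · intro y
    obtain ⟨s, rfl⟩ := (coE X n U.1).surjective y
    have h1 : (appS (cokernel.π φ) U.1 ∘ₗ (coE X n U.1).symm.toLinearMap) (coE X n U.1 s) =
      appS (cokernel.π φ) U.1 s := by simp
    rw [h1]
    constructor
    · intro h
      obtain ⟨t, ht⟩ := exists_of_appS_eq_zero (S := ShortComplex.mk φ (cokernel.π φ) (cokernel.condition φ))
        (ShortComplex.exact_cokernel φ) s h
      exact ⟨t, congrArg (co X n U.1) ht⟩
    · rintro ⟨t, ht⟩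
      have h2 : appS φ U.1 t = s := co_injective U.1 ht
      rw [← h2, ← appS_comp, cokernel.condition]
      rfl

variable [IsIntegral X]

omit [IsLocallyNoetherian X] in
theorem det_ne_zero' (φ : F ⟶ FlatMod.freeMod X n) [Mono φ] {U : X.Opens} [Nonempty U]
    (b : Module.Basis (Fin n) Γ(X, U) (Sec F U)) : (mt φ b).det ≠ 0 :=
  det_ne_zero b (co X n U ∘ₗ appS φ U) ((co_injective U).comp (injective_of_mono φ U))

/-- The indexing set: nonempty affine opens with a local basis. -/
structure Idx (F : X.Modules) (n : ℕ) where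
  /-- the open -/
  U : X.affineOpens
  ne : Nonempty U.1
  /-- the basis -/
  b : Fin n → Sec F U.1
  hb : IsLocBasis b

omit [IsLocallyNoetherian X] [IsIntegral X] in
theorem isBasis_idx (hF : FlatMod.IsFinLocFreeOfRank n F) :
    Opens.IsBasis (Set.range fun i : Idx F n => i.U.1) := by
  rw [Opens.isBasis_iff_nbhd]
  intro W x hx
  obtain ⟨V, hxV, ⟨e⟩⟩ := hF x
  obtain ⟨b, hb⟩ := nonempty_restrict_iso_iff.1 ⟨e⟩
  obtain ⟨U, hU, hxU, hUV⟩ := Opens.isBasis_iff_nbhd.mp X.isBasis_affineOpens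
    (show x ∈ W ⊓ V from ⟨hx, hxV⟩)
  exact ⟨U, ⟨⟨⟨U, hU⟩, ⟨⟨x, hxU⟩⟩, _, hb.restrict (hUV.trans inf_le_right)⟩, rfl⟩, hxU, hUV.trans inf_le_left⟩

open Groth.Agent.PerfA.IdealModule in
/-- The ideals of the degeneracy divisors of two injective maps are isomorphic. -/
theorem nonempty_iso (hF : FlatMod.IsFinLocFreeOfRank n F) (hFq : Coh.IsQCoh F)
    (φ ψ : F ⟶ FlatMod.freeMod X n) [Mono φ] [Mono ψ] :
    Nonempty (ClSub.idealMod (Fitt.sheafIdeal (cokernel φ) 0) ≅ ClSub.idealMod (Fitt.sheafIdeal (cokernel ψ) 0)) := by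
  let I := Fitt.sheafIdeal (cokernel φ) 0
  let J := Fitt.sheafIdeal (cokernel ψ) 0
  let bs : ∀ i : Idx F n, Module.Basis (Fin n) Γ(X, i.U.1) (Sec F i.U.1) := fun i => i.hb.basis le_rfl
  have hbs : ∀ i j, bs i j = i.b j := fun i j => by
    rw [IsLocBasis.basis_apply, res_self]
  have hmt : ∀ (θ : F ⟶ FlatMod.freeMod X n) (i : Idx F n), mt θ (bs i) = mt θ i.b := fun θ i => by
    congr 1
    funext j
    exact hbs i j
  have h0 : ∀ (θ : F ⟶ FlatMod.freeMod X n) [Mono θ] (i : Idx F n), (mt θ i.b).det ≠ 0 := fun θ _ i => by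
    have := i.ne
    rw [← hmt]
    exact det_ne_zero' θ (bs i)
  have hI : ∀ i : Idx F n, I.ideal i.U = Ideal.span {(mt φ i.b).det} := fun i => by
    rw [← hmt]
    exact sheafIdeal_eq_span hFq φ i.U (bs i)
  have hJ : ∀ i : Idx F n, J.ideal i.U = Ideal.span {(mt ψ i.b).det} := fun i => by
    rw [← hmt]
    exact sheafIdeal_eq_span hFq ψ i.U (bs i)
  have hex : ∀ i : Idx F n, ∃ e : I.ideal i.U ≃ₗ[Γ(X, i.U.1)] J.ideal i.U,
      ∀ (r : Γ(X, i.U.1)) (h : r * (mt φ i.b).det ∈ I.ideal i.U),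
        (e ⟨r * (mt φ i.b).det, h⟩ : Γ(X, i.U.1)) = r * (mt ψ i.b).det := fun i => by
    have := i.ne
    exact exists_equiv (h0 φ i) (h0 ψ i) _ _ (hI i) (hJ i)
  choose e he using hex
  refine K875.PowSec.nonempty_iso_of_family (isBasis_idx hF) _ _
    (fun i => (sectionsEquiv I i.U).trans ((e i).trans (sectionsEquiv J i.U).symm)) ?_
  intro i j h s
  -- the change of basis
  let g : Matrix (Fin n) (Fin n) Γ(X, j.U.1) := Matrix.of fun a c => (bs j).repr (res F h (i.b a)) c
  have hg : ∀ a, res F h (i.b a) = ∑ c, g a c • j.b c := fun a => by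
    conv_lhs => rw [← (bs j).sum_repr (res F h (i.b a))]
    exact Finset.sum_congr rfl fun c _ => by rw [hbs]; rfl
  have hdet : ∀ θ : F ⟶ FlatMod.freeMod X n, resO X h (mt θ i.b).det = g.det * (mt θ j.b).det := fun θ => by
    rw [← det_res θ h i.b]
    exact det_change _ _ g hg _
  have hv : ∀ (l : Idx F n) (t : Sec (ClSub.idealMod I) l.U.1) (r : Γ(X, l.U.1)) (_ : val I t = r * (mt φ l.b).det),
      val J (((sectionsEquiv I l.U).trans ((e l).trans (sectionsEquiv J l.U).symm)) t) = r * (mt ψ l.b).det := by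
    intro l t r hr
    have h1 : (sectionsEquiv I l.U t : Γ(X, l.U.1)) = r * (mt φ l.b).det := hr
    have h2 : r * (mt φ l.b).det ∈ I.ideal l.U := h1 ▸ (sectionsEquiv I l.U t).2
    have h3 : sectionsEquiv I l.U t = ⟨r * (mt φ l.b).det, h2⟩ := Subtype.ext h1
    have h4 : ((sectionsEquiv J l.U) ((sectionsEquiv J l.U).symm (e l (sectionsEquiv I l.U t))) : Γ(X, l.U.1)) =
        r * (mt ψ l.b).det := by
      rw [LinearEquiv.apply_symm_apply, h3, he l r h2]
    exact h4
  obtain ⟨r, hr⟩ : ∃ r, val I s = r * (mt φ i.b).det := by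
    have h1 := val_mem I i.U s
    rw [hI i, Ideal.mem_span_singleton'] at h1
    obtain ⟨r, hr⟩ := h1
    exact ⟨r, hr.symm⟩
  apply val_injective J
  have h5 : val I (res (ClSub.idealMod I) h s) = resO X h r * g.det * (mt φ j.b).det := by
    have h6 : val I (res (ClSub.idealMod I) h s) = resO X h (val I s) := val_res I h s
    rw [h6, hr, map_mul, hdet, mul_assoc]
  refine (hv j _ _ h5).trans ?_
  have h7 : val J (res (ClSub.idealMod J) h
      (((sectionsEquiv I i.U).trans ((e i).trans (sectionsEquiv J i.U).symm)) s)) =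
      resO X h (val J (((sectionsEquiv I i.U).trans ((e i).trans (sectionsEquiv J i.U).symm)) s)) := val_res J h _
  refine Eq.trans ?_ h7.symm
  rw [hv i s r hr, map_mul, hdet, mul_assoc]

end Scheme

end K80.FittDet
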