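import Groth.Agent.Surf.K80.RankGen
import Groth.Agent.Surf.K459.SurfBase
import Groth.Agent.Surf.K462.H1Ideal
import Groth.Agent.S8914
/-!
# Integral curves on smooth surfaces are effective Cartier divisors
-/

set_option autoImplicit false
universe u
open CategoryTheory CategoryTheory.Limits AlgebraicGeometry TopologicalSpace Opposite

namespace K80.KerCart

open Groth.Agent Groth.Agent.CycB.StalkExact Groth.Agent.VarietyA.DegRank K707.Base

variable {S C : Scheme.{u}}

theorem genericPoint_notMem_range [IsIntegral S] (hdim : topologicalKrullDim S = 2) (j : C ⟶ S) [IsClosedImmersion j]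
    (hC : topologicalKrullDim C = 1) : genericPoint S ∉ Set.range j := by
  intro hη
  have hs : Set.range j = Set.univ := by
    rw [Set.eq_univ_iff_forall]
    intro x
    exact (genericPoint_specializes x).mem_closed j.isClosedEmbedding.isClosed_range hη
  have hhom : IsHomeomorph j :=
    (isHomeomorph_iff_isEmbedding_surjective).mpr ⟨j.isClosedEmbedding.isEmbedding, Set.range_eq_univ.mp hs⟩
  rw [IsHomeomorph.topologicalKrullDim_eq _ hhom, hdim] at hC
  exact absurd hC (by decide)

theorem subsingleton_generic [IsIntegral S] (hdim : topologicalKrullDim S = 2) (j : C ⟶ S) [IsClosedImmersion j]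
    (hC : topologicalKrullDim C = 1) (M : C.Modules) :
    Subsingleton (((Coh.push j).obj M).presheaf.stalk (genericPoint S)) :=
  Ega1.ClosedUnit.subsingleton_stalk_pushforward j j.isClosedEmbedding.isClosed_range M _
    (genericPoint_notMem_range hdim j hC)

/-- The rank of the kernel of a map onto a generically zero module. -/
theorem rk_eq_of_shortExact [IsIntegral S] {T : ShortComplex S.Modules} (hT : T.ShortExact)
    (h : Subsingleton (T.X₃.presheaf.stalk (genericPoint S))) : rk T.X₁ = rk T.X₂ := by
  have := hT.mono_f
  have hinj := stalkLin_injective T.f (genericPoint S)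
  have hsurj : Function.Surjective (stalkLin T.f (genericPoint S)) := by
    intro t
    exact (stalkLin_exact T hT.exact (genericPoint S) t).mp (Subsingleton.elim _ _)
  exact (LinearEquiv.ofBijective _ ⟨hinj, hsurj⟩).finrank_eq

theorem isInvertible_structureModule (X : Scheme.{u}) : PicF.IsInvertible (Coh.structureModule X) :=
  fun _ => ⟨⊤, trivial, ⟨Scheme.Modules.restrictUnitIso _⟩⟩

theorem isIntegral_of_iso' {Y Z : Scheme.{u}} (e : Y ⟶ Z) [IsIso e] [IsIntegral Y] : IsIntegral Z := by
  have : Nonempty Z := ⟨e (Classical.arbitrary Y)⟩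
  exact isIntegral_of_isOpenImmersion (inv e)

variable (k : Type u) [Field k] [S.Over (Spec (CommRingCat.of k))] [Smooth (S ↘ Spec (CommRingCat.of k))]
  [IsIntegral S]

include k in
theorem isInvertible_idealMod_of_integral (hdim : topologicalKrullDim S = 2) (D : S.IdealSheafData)
    [IsIntegral D.subscheme] (hD : topologicalKrullDim D.subscheme = 1) : PicF.IsInvertible (ClSub.idealMod D) := by
  have hN := K459.SurfBase.isLocallyNoetherian S (S ↘ Spec (CommRingCat.of k))
  have hex := VarietyB.RestrSeq.idealSeq_shortExact D
  have hO : FlatMod.IsFinLocFreeOfRank 1 (Coh.structureModule S) :=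
    Ega2.QCohLocal.isFinLocFreeOfRank_one_iff.2 (isInvertible_structureModule S)
  have hOD : TorSh.IsTorsionFree (Coh.structureModule D.subscheme) :=
    isTorsionFree_of_isFinLocFree Sga67.TensorOps.isFinLocFree_structureModule
  have h1 : FlatMod.IsFinLocFree (ClSub.idealMod D) :=
    K459.LocFreeKer.isFinLocFree_of_shortExact (K459.SurfBase.isRegular (k := k) S)
      (K459.SurfBase.ringKrullDim_stalk_le S hdim) (VarietyB.RestrSeq.idealSeq D) hex (isFinLocFree_of_rank hO)
      (K459.SurfBase.isQCoh_push D.subschemeι (isCoh_of_rank (Ega2.QCohLocal.isFinLocFreeOfRank_one_iff.2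
        (isInvertible_structureModule D.subscheme))).1)
      (K459.CurveReg.reg1_push (S ↘ Spec (CommRingCat.of k)) hdim D.subschemeι hD _ hOD)
  have h2 : rk (ClSub.idealMod D) = 1 :=
    (rk_eq_of_shortExact hex (subsingleton_generic hdim D.subschemeι hD _)).trans (rk_of_rank hO)
  have h3 := isFinLocFreeOfRank_rk h1
  rw [h2] at h3
  exact Ega2.QCohLocal.isFinLocFreeOfRank_one_iff.1 h3

include k in
/-- An integral curve on a smooth surface is an effective Cartier divisor. -/
theorem isEffCartierIdeal_ker (hdim : topologicalKrullDim S = 2) (j : C ⟶ S) [IsClosedImmersion j] [IsIntegral C]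
    (hC : topologicalKrullDim C = 1) : BlowUp.IsEffCartierIdeal j.ker := by
  have h1 : IsIntegral j.ker.subscheme := isIntegral_of_iso' j.toImage
  have h2 : topologicalKrullDim j.ker.subscheme = 1 := by
    rw [← hC]
    exact (IsHomeomorph.topologicalKrullDim_eq j.toImage j.toImage.homeomorph.isHomeomorph).symm
  exact (S8914.result j.ker).mp (isInvertible_idealMod_of_integral k hdim j.ker h2)

omit [Smooth (S ↘ Spec (CommRingCat.of k))] [IsIntegral S] in
/-- `H^1` of the ideal of an integral curve on a regular surface. -/
theorem h1_idealMod_ker [IsAlgClosed k] [IsProper (S ↘ Spec (CommRingCat.of k))] (j : C ⟶ S)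
    [IsClosedImmersion j] [IsIntegral C]
    (h : Subsingleton (Coh.HH S (Coh.structureModule S) 1)) : Subsingleton (Coh.HH S (ClSub.idealMod j.ker) 1) := by
  have h1 : IsIntegral j.ker.subscheme := isIntegral_of_iso' j.toImage
  exact K462.H1Ideal.h1_of_appTop_surjective j.ker
    (K462.H1Ideal.appTop_surjective_of_connected k (S ↘ Spec (CommRingCat.of k)) j.ker) h

end K80.KerCart
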