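import Groth.Agent.Ega1.PullFormal
import Groth.Agent.PerfC.FibInj
import Groth.Prelude.Def_KLin
/-!
# The family of cokernels over a line of homomorphisms

For `p : P ⟶ S`, homomorphisms `φ₀ φ₁ : F ⟶ G` on `S` and a function `τ` on `P`, the homomorphism
`p^*φ₀ + τ p^*φ₁` on `P`; its pull-back along a section `s` of `p` with `s^* τ = a` is `φ₀ + a φ₁`.
-/

set_option autoImplicit false
universe u
open CategoryTheory CategoryTheory.Limits AlgebraicGeometry Opposite

namespace K80.LineFam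

open Groth.Agent

variable {S P : Scheme.{u}} (p : P ⟶ S) {F G : S.Modules} (φ₀ φ₁ : F ⟶ G) (τ : Coh.Γtop P)

/-- `p^*φ₀ + τ p^*φ₁`. -/
noncomputable def fam : (Scheme.Modules.pullback p).obj F ⟶ (Scheme.Modules.pullback p).obj G :=
  (Scheme.Modules.pullback p).map φ₀ + Formal.smulModΓ _ τ ≫ (Scheme.Modules.pullback p).map φ₁

variable (s : S ⟶ P)

/-- `s^* p^*` is the identity. -/
noncomputable def secIso (hs : s ≫ p = 𝟙 S) :
    Scheme.Modules.pullback p ⋙ Scheme.Modules.pullback s ≅ 𝟭 S.Modules :=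
  Scheme.Modules.pullbackComp s p ≪≫ Scheme.Modules.pullbackCongr hs ≪≫ Scheme.Modules.pullbackId S

theorem map_fam (hs : s ≫ p = 𝟙 S) (r : Coh.Γtop S) (hr : s.appTop.hom τ = r) :
    (Scheme.Modules.pullback s).map (fam p φ₀ φ₁ τ) ≫ (secIso p s hs).hom.app G =
      (secIso p s hs).hom.app F ≫ (φ₀ + Formal.smulModΓ F r ≫ φ₁) := by
  subst hr
  have h0 := (secIso p s hs).hom.naturality φ₀
  have h1 := (secIso p s hs).hom.naturality φ₁
  simp only [Functor.comp_map, Functor.id_map, Functor.comp_obj, Functor.id_obj] at h0 h1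
  unfold fam
  rw [Functor.map_add, Functor.map_comp, Ega1.PullFormal.pullback_smulModΓ, Preadditive.add_comp,
    Preadditive.comp_add, h0, Category.assoc, h1, ← Category.assoc, ← Category.assoc]
  congr 2
  exact (KLin.comp_smulModΓ ((secIso p s hs).hom.app F) _).symm

/-- The fibre of the family of cokernels. -/
theorem nonempty_coker_iso (hs : s ≫ p = 𝟙 S) (r : Coh.Γtop S) (hr : s.appTop.hom τ = r) :
    Nonempty ((Scheme.Modules.pullback s).obj (cokernel (fam p φ₀ φ₁ τ)) ≅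
      cokernel (φ₀ + Formal.smulModΓ F r ≫ φ₁)) := by
  refine ⟨PreservesCokernel.iso (Scheme.Modules.pullback s) (fam p φ₀ φ₁ τ) ≪≫
    cokernel.mapIso _ _ ((secIso p s hs).app F) ((secIso p s hs).app G) ?_⟩
  exact map_fam p φ₀ φ₁ τ s hs r hr

theorem mono_map_fam (hs : s ≫ p = 𝟙 S) (r : Coh.Γtop S) (hr : s.appTop.hom τ = r)
    [Mono (φ₀ + Formal.smulModΓ F r ≫ φ₁)] : Mono ((Scheme.Modules.pullback s).map (fam p φ₀ φ₁ τ)) := by
  have h : (Scheme.Modules.pullback s).map (fam p φ₀ φ₁ τ) =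
      (secIso p s hs).hom.app F ≫ (φ₀ + Formal.smulModΓ F r ≫ φ₁) ≫ (secIso p s hs).inv.app G := by
    rw [← Category.assoc, ← map_fam p φ₀ φ₁ τ s hs r hr, Category.assoc, ← NatTrans.comp_app,
      Iso.hom_inv_id, NatTrans.id_app]
    exact (Category.comp_id _).symm
  rw [h]
  infer_instance

end K80.LineFam
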