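import Groth.Agent.Surf.K80.LineFam
import Groth.Agent.Surf.K80.ALine
import Groth.Agent.PerfC.FibInj
import Groth.Agent.S1391
/-!
# Flatness of the family of cokernels over an open subset of the line
-/

set_option autoImplicit false
set_option linter.style.haveILetI false
universe u
open CategoryTheory CategoryTheory.Limits AlgebraicGeometry Opposite

namespace K80.LineFlat

open Groth.Agent K80.LineFam K80.ALine Polynomial

section

variable {k : Type u} [Field k]

theorem flat_of_isField {R M : Type*} [CommRing R] [AddCommGroup M] [Module R M] (h : IsField R) :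
    Module.Flat R M := by
  letI := h.toField
  infer_instance

theorem isField_stalk_genericPoint {Y : Scheme.{u}} [IsIntegral Y] (y : Y) (h : y = genericPoint Y) :
    IsField (Y.presheaf.stalk y) := by
  subst h
  exact Field.toIsField Y.functionField

theorem isFlatOver_field {X : Scheme.{u}} (f : X ⟶ Spec (CommRingCat.of k)) (M : X.Modules) :
    FlatMod.IsFlatOver f M := by
  intro x
  have h : IsField ((Spec (CommRingCat.of k)).presheaf.stalk (f.base x)) :=
    isField_stalk_genericPoint _ (Subsingleton.elim (α := PrimeSpectrum k) _ _)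
  letI := FlatMod.moduleStalkOver f M x
  exact flat_of_isField h

theorem exists_of_isPullback {P X Y Z : Scheme.{u}} {p : P ⟶ X} {q : P ⟶ Y} {f : X ⟶ Z} {g : Y ⟶ Z}
    (H : IsPullback p q f g) (x : X) (y : Y) (h : f x = g y) : ∃ z : P, p z = x := by
  obtain ⟨w, hw, -⟩ := Scheme.Pullback.exists_preimage_pullback x y h
  refine ⟨H.isoPullback.inv w, ?_⟩
  rw [← Scheme.Hom.comp_apply, H.isoPullback_inv_fst, hw]

/-- A section of a morphism to `Spec k` is the inclusion of a point with residue field `k`. -/
theorem exists_residue_iso {T : Scheme.{u}} (q : T ⟶ Spec (CommRingCat.of k))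
    (t : Spec (CommRingCat.of k) ⟶ T) (ht : t ≫ q = 𝟙 _) :
    ∃ e : Spec (CommRingCat.of k) ≅ Spec (T.residueField (t (IsLocalRing.closedPoint k))),
      e.hom ≫ T.fromSpecResidueField _ = t := by
  let φ := T.descResidueField (Scheme.stalkClosedPointTo t)
  have h1 : Spec.map φ ≫ T.fromSpecResidueField (t (IsLocalRing.closedPoint k)) = t :=
    Scheme.descResidueField_stalkClosedPointTo_fromSpecResidueField k T t
  obtain ⟨ψ, hψ⟩ := Spec.map_surjective (T.fromSpecResidueField (t (IsLocalRing.closedPoint k)) ≫ q)
  have h2 : ψ ≫ φ = 𝟙 _ := by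
    apply Spec.map_injective
    rw [Spec.map_comp, Spec.map_id, hψ, ← Category.assoc, h1, ht]
  have h3 : Function.Surjective φ.hom := fun c => ⟨ψ.hom c, congr($(h2).hom c)⟩
  have h4 : Function.Injective φ.hom := RingHom.injective φ.hom
  have h5 : IsIso φ := (ConcreteCategory.isIso_iff_bijective φ).mpr ⟨h4, h3⟩
  exact ⟨asIso (Spec.map φ), h1⟩

/-- The square of the fibre at a rational point. -/
theorem isPullback_section {S T : Scheme.{u}} (f : S ⟶ Spec (CommRingCat.of k))
    (q : T ⟶ Spec (CommRingCat.of k)) (t : Spec (CommRingCat.of k) ⟶ T) (ht : t ≫ q = 𝟙 _)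
    (s : S ⟶ pullback f q) (hs1 : s ≫ pullback.fst f q = 𝟙 S) (hs2 : s ≫ pullback.snd f q = f ≫ t) :
    ∃ q' : S ⟶ Spec (T.residueField (t (IsLocalRing.closedPoint k))),
      IsPullback s q' (pullback.snd f q) (T.fromSpecResidueField _) := by
  obtain ⟨e, he⟩ := exists_residue_iso q t ht
  have h1 : IsPullback s f (pullback.snd f q) t := by
    refine IsPullback.of_right (h₁₂ := pullback.fst f q) (h₂₂ := q) (v₁₃ := f) ?_ hs2 (IsPullback.of_hasPullback f q)
    rw [hs1, ht]
    exact IsPullback.id_horiz f
  refine ⟨f ≫ e.hom, IsPullback.of_iso h1 (Iso.refl _) (Iso.refl _) e (Iso.refl _) ?_ ?_ ?_ ?_⟩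
  · simp
  · simp
  · simp
  · simp [he]

end

variable {k : Type u} [Field k] [IsAlgClosed k]

/-- The family of cokernels is flat if all the closed fibres of the homomorphism are injective. -/
theorem isFlatOver_coker {S : Scheme.{u}} (f : S ⟶ Spec (CommRingCat.of k)) [LocallyOfFinitePresentation f]
    {g : k[X]} (hg : g ≠ 0) {F G : S.Modules} (hGq : Coh.IsQCoh G)
    (u : (Scheme.Modules.pullback (pullback.fst f (pT k g))).obj F ⟶
      (Scheme.Modules.pullback (pullback.fst f (pT k g))).obj G)
    (hF' : CohB1.IsFP ((Scheme.Modules.pullback (pullback.fst f (pT k g))).obj F))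
    (hG' : CohB1.IsFP ((Scheme.Modules.pullback (pullback.fst f (pT k g))).obj G))
    (h : ∀ (a : k) (ha : g.eval a ≠ 0) (s : S ⟶ pullback f (pT k g)) (_ : s ≫ pullback.fst f (pT k g) = 𝟙 S)
      (_ : s ≫ pullback.snd f (pT k g) = f ≫ pt a ha), Mono ((Scheme.Modules.pullback s).map u)) :
    FlatMod.IsFlatOver (pullback.snd f (pT k g)) (cokernel u) := by
  intro x
  rcases point_cases hg (pullback.snd f (pT k g) x) with hx | ⟨a, ha, hx⟩
  · letI := FlatMod.moduleStalkOver (pullback.snd f (pT k g)) (cokernel u) x
    exact flat_of_isField hx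
  · let t := pt a ha
    let s : S ⟶ pullback f (pT k g) := pullback.lift (𝟙 S) (f ≫ t)
      (by rw [Category.id_comp, Category.assoc, pt_pT, Category.comp_id])
    have hs1 : s ≫ pullback.fst f (pT k g) = 𝟙 S := pullback.lift_fst _ _ _
    have hs2 : s ≫ pullback.snd f (pT k g) = f ≫ t := pullback.lift_snd _ _ _
    obtain ⟨q', H⟩ := isPullback_section f (pT k g) t (pt_pT a ha) s hs1 hs2
    have hpt : (default : PrimeSpectrum k) = IsLocalRing.closedPoint k := Subsingleton.elim _ _
    have hxt : pullback.snd f (pT k g) x = (T k g).fromSpecResidueField (t (IsLocalRing.closedPoint k))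
        (IsLocalRing.closedPoint _) :=
      (hx.trans (congrArg (fun z : Spec (CommRingCat.of k) => t z) hpt)).trans
        (Scheme.fromSpecResidueField_apply _ _).symm
    obtain ⟨y, hy⟩ := exists_of_isPullback H x (IsLocalRing.closedPoint _) hxt
    subst hy
    have hmono := h a ha s hs1 hs2
    exact (PerfC.FibInj.injective_and_flat H y hF' hG' u
      (S1391.result f (pullback.snd f (pT k g)) (pullback.fst f (pT k g)) (pT k g)
        (IsPullback.of_hasPullback f (pT k g)) G hGq (s y) (isFlatOver_field f G _))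
      (CycB.StalkExact.stalkLin_injective _ y)).2

end K80.LineFlat
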