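import Groth.Agent.VBCurve.K707.Base
import Groth.Agent.ShStab.K848.TF
import Groth.Agent.Surf.K80.FittDet
import Groth.Agent.SDiv.K474.FittLoc
import Groth.Agent.Dcoh.FinLocFree
import Groth.Agent.PerfA.QCohEpi
/-!
# Generic rank of kernels and generically injective homomorphisms of bundles
-/

set_option autoImplicit false
universe u
open CategoryTheory CategoryTheory.Limits AlgebraicGeometry TopologicalSpace Opposite

namespace K80.RankGen

open Groth.Agent Groth.Agent.CycB.StalkExact Groth.Agent.VarietyA.DegRank K707.Base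
  Groth.Agent.SDiv.K474.FittSheaf Groth.Agent.SDiv.K474.FittLoc

variable {X : Scheme.{u}}

theorem rank_freeMod (X : Scheme.{u}) (n : ℕ) : FlatMod.IsFinLocFreeOfRank n (FlatMod.freeMod X n) := fun _ =>
  ⟨⊤, trivial, ⟨(Dcoh.FinLocFree.restrictFree _ n).symm⟩⟩

/-- The kernel of a map from `O^n` onto a generically zero module has rank `n`. -/
theorem isFinLocFreeOfRank_kernel [IsIntegral X] {n : ℕ} {M : X.Modules} (p : FlatMod.freeMod X n ⟶ M)
    (hM : Subsingleton (M.presheaf.stalk (genericPoint X))) (h : FlatMod.IsFinLocFree (kernel p)) :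
    FlatMod.IsFinLocFreeOfRank n (kernel p) := by
  have h1 := isFinLocFreeOfRank_rk h
  have hinj := stalkLin_injective (kernel.ι p) (genericPoint X)
  have hsurj : Function.Surjective (stalkLin (kernel.ι p) (genericPoint X)) := by
    intro t
    have hex := stalkLin_exact (ShortComplex.mk (kernel.ι p) p (kernel.condition p))
      (ShortComplex.exact_of_f_is_kernel _ (kernelIsKernel _)) (genericPoint X)
    exact (hex t).mp (Subsingleton.elim _ _)
  have h2 : rk (kernel p) = n := by
    rw [rk, (LinearEquiv.ofBijective _ ⟨hinj, hsurj⟩).finrank_eq]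
    exact finrank_stalk (rank_freeMod X n) _
  rwa [h2] at h1

/-- A homomorphism of bundles of the same rank with generically zero cokernel is a monomorphism. -/
theorem mono_of_coker [IsIntegral X] {n : ℕ} {F G : X.Modules} (hF : FlatMod.IsFinLocFreeOfRank n F)
    (hG : FlatMod.IsFinLocFreeOfRank n G) (φ : F ⟶ G)
    (h : Subsingleton ((cokernel φ).presheaf.stalk (genericPoint X))) : Mono φ := by
  have hFf := isFinLocFree_of_rank hF
  refine K848.TF.mono_of_generic (isCoh_of_rank hF).1 (isTorsionFree_of_isFinLocFree hFf) φ ?_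
  have hsurj : Function.Surjective (stalkLin φ (genericPoint X)) := by
    intro t
    have hex := stalkLin_exact (ShortComplex.mk φ (cokernel.π φ) (cokernel.condition φ))
      (ShortComplex.exact_cokernel φ) (genericPoint X)
    exact (hex t).mp (Subsingleton.elim _ _)
  obtain ⟨b⟩ := exists_basis hF (genericPoint X)
  obtain ⟨b'⟩ := exists_basis hG (genericPoint X)
  let e := b'.equiv b (Equiv.refl _)
  have h3 : Function.Surjective (e.toLinearMap ∘ₗ stalkLin φ (genericPoint X)) := e.surjective.comp hsurj
  have : Module.Finite (X.presheaf.stalk (genericPoint X)) (F.presheaf.stalk (genericPoint X)) :=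
    Module.Finite.of_basis b
  have h4 := OrzechProperty.injective_of_surjective_endomorphism _ h3
  exact fun a b hab => h4 (congrArg e hab)

section Fitt

variable [IsLocallyNoetherian X] {n : ℕ} {F : X.Modules} (hF : Coh.IsQCoh F) (φ : F ⟶ FlatMod.freeMod X n)

include hF

/-- `coker (F → O^n)` is generated by `n` elements. -/
theorem notMem_support_n (x : X) : x ∉ (Fitt.sheafIdeal (cokernel φ) n).support := by
  have hG := FittDet.isCoh_coker hF φ
  have hO : Coh.IsQCoh (FlatMod.freeMod X n) := (FittDet.isCoh_freeMod X n).1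
  have hGq : Coh.IsQCoh (cokernel φ) := hG.1
  obtain ⟨U, hU, hx, -⟩ := exists_isAffineOpen_mem_and_subset (x := x) (U := ⊤) trivial
  have hsurj : Function.Surjective (Sga67.Sec.appS (cokernel.π φ) U) := PerfA.QCohEpi.app_surjective_of_epi (cokernel.π φ) hU
  refine not_mem_support_of_span _ hG.1 hG.2 n x hU
    (fun i => Sga67.Sec.appS (cokernel.π φ) U ((FittDet.coE X n U).symm (Pi.single i 1))) hx ?_
  rw [eq_top_iff]
  rintro t -
  obtain ⟨s, rfl⟩ := hsurj t
  obtain ⟨v, rfl⟩ := (FittDet.coE X n U).symm.surjective s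
  have hv : v = ∑ i, v i • (Pi.single i 1 : Fin n → Γ(X, U)) := by
    funext j; simp [Finset.sum_apply, Pi.single_apply]
  have h5 : Sga67.Sec.appS (cokernel.π φ) U ((FittDet.coE X n U).symm v) =
      ∑ i, v i • Sga67.Sec.appS (cokernel.π φ) U ((FittDet.coE X n U).symm (Pi.single i 1)) := by
    conv_lhs => rw [hv]
    simp only [map_sum, map_smul]
  rw [h5]
  exact Submodule.sum_mem _ fun i _ => Submodule.smul_mem _ _ (Submodule.subset_span ⟨i, rfl⟩)

omit [IsLocallyNoetherian X] in
omit hF in
/-- Off the zeroth Fitting ideal the stalks vanish. -/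
theorem subsingleton_stalk {G : X.Modules} (hGq : Coh.IsQCoh G) (hGt : CohB1.IsFT G) (x : X)
    (hx : x ∉ (Fitt.sheafIdeal G 0).support) : Subsingleton (G.presheaf.stalk x) := by
  obtain ⟨U, hU, e, hxU, -, he⟩ := exists_span_of_not_mem_support G hGq hGt 0 x hx ⊤ trivial
  have hs : Subsingleton Γ(G, U) := by
    have h1 : (Set.range e) = ∅ := Set.range_eq_empty e
    rw [h1, Submodule.span_empty] at he
    exact (Submodule.subsingleton_iff _).mp (subsingleton_of_bot_eq_top he)
  refine ⟨fun a b => ?_⟩
  have key : ∀ a : G.presheaf.stalk x, a = 0 := by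
    intro a
    refine Divis.StalkMod.stalk_elim G hGq hU x hxU ?_
    intro _ _ _ _ l hl halg _
    obtain ⟨⟨y, t⟩, hy⟩ := IsLocalizedModule.surj (hU.primeIdealOf ⟨x, hxU⟩).asIdeal.primeCompl l a
    have hy0 : l y = 0 := by rw [Subsingleton.elim y 0, map_zero]
    change (t : Γ(X, U)) • a = l y at hy
    rw [hy0] at hy
    exact (IsLocalizedModule.smul_injective l t) (hy.trans (smul_zero _).symm)
  rw [key a, key b]

end Fitt

end K80.RankGen
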